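import Groth.Agent.H27FulTrace.Cech
import Mathlib.LinearAlgebra.Trace
import Mathlib.LinearAlgebra.Matrix.ToLin

/-!
# The cohomology of projective space in Laurent monomials, with the trace of Frobenius
-/

set_option autoImplicit false

universe u

open MvPolynomial Groth.Agent.H10Coh.Pn Groth.Agent.H15Site

namespace Groth.Agent.H27FulTrace

noncomputable section

variable {n : ℕ} {k : Type u} [Field k]

/-- Cohomology of the piece of degree `d` of the quotient by `J`. -/
abbrev Hc (J : Ideal (MvPolynomial (Fin (n + 1)) k)) (d : ℤ) (p : ℕ) : Type u :=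
  Pair.H (dd (n := n) (k := k)) (fam (Asub n k d)) (fam (Jsub J d)) p

/-- A coefficient. -/
def cfL (e : Expo n) : L n k →ₗ[k] k where
  toFun z := z.coeff e
  map_add' _ _ := by simp
  map_smul' _ _ := by simp

theorem cfL_apply (e : Expo n) (z : L n k) : cfL e z = z.coeff e := rfl

/-- All exponents negative. -/
def AllNeg (e : Expo n) : Prop := ∀ i, e i < 0

/-- A nonnegative coordinate. -/
def chN (e : Expo n) : Fin (n + 1) := Classical.epsilon fun i => 0 ≤ e i

theorem chN_spec {e : Expo n} (h : ¬ AllNeg e) : 0 ≤ e (chN e) :=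
  Classical.epsilon_spec (p := fun i => 0 ≤ e i) (by simpa [AllNeg] using h)

theorem mem_fam_bot {p : ℕ} {d : ℤ} {x : V n k p} :
    x ∈ fam (Jsub (⊥ : Ideal (MvPolynomial (Fin (n + 1)) k)) d) p ↔ x = 0 := by
  simp [mem_fam, Jsub_bot, funext_iff]

theorem allNeg_range {d : ℤ} {S : Set (Fin (n + 1))} {z : L n k} (hz : z ∈ Asub n k d S) {e : Expo n}
    (he : AllNeg e) (hS : S ≠ Set.univ) : z.coeff e = 0 := by
  by_contra h
  obtain ⟨i, hi⟩ := (Set.ne_univ_iff_exists_notMem S).1 hS
  exact absurd ((hz e h).2 i hi) (not_le.2 (he i))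

theorem range_ne_univ_of_lt {p : ℕ} (hp : p < n) (a : Idx n p) : Set.range a ≠ Set.univ := fun h => by
  have := Fintype.card_le_of_surjective a (Set.range_eq_univ.1 h)
  simp at this
  omega

open Classical in
/-- Coning off the exponents which are not all negative. -/
theorem mem_Bd_of_noNeg {d : ℤ} {p : ℕ} {x : V n k (p + 1)} (hx : x ∈ fam (Asub n k d) (p + 1))
    (hdx : dd (p + 1) x = 0) (hneg : ∀ a e, AllNeg e → (x a).coeff e = 0) :
    x ∈ Pair.Bd (dd (n := n) (k := k)) (fam (Asub n k d)) (fam (Jsub ⊥ d)) (p + 1) := by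
  let y : V n k p := fun a => ∑ i : Fin (n + 1),
    AddMonoidAlgebra.ofCoeff ((x (Fin.cons i a)).coeff.filter fun e => ¬ AllNeg e ∧ chN e = i)
  have hy : ∀ a e, (y a).coeff e = (x (Fin.cons (chN e) a)).coeff e := fun a e => by
    simp only [y, AddMonoidAlgebra.coeff_sum, Finsupp.finsetSum_apply, AddMonoidAlgebra.coeff_ofCoeff,
      Finsupp.filter_apply]
    rw [Finset.sum_eq_single (chN e) (fun i _ hi => if_neg fun h => hi h.2.symm) (by simp)]
    by_cases h : AllNeg e
    · rw [if_neg fun h' => h'.1 h, hneg _ e h]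
    · rw [if_pos ⟨h, rfl⟩]
  refine (Pair.mem_Bd_succ _).2 ⟨0, zero_mem _, y, mem_fam.2 fun a e he => ?_, ?_⟩
  · rw [hy] at he
    have hn : ¬ AllNeg e := fun h => he (hneg _ e h)
    have h := mem_fam.1 hx _ e he
    refine ⟨h.1, fun i hi => ?_⟩
    by_cases hie : i = chN e
    · exact hie ▸ chN_spec hn
    · exact h.2 i (by rw [Fin.range_cons]; simp [hie, hi])
  · rw [zero_add]
    funext c
    refine AddMonoidAlgebra.ext (Finsupp.ext fun e => ?_)
    have h0 := congrArg (fun z : V n k (p + 2) => cfL e (z (Fin.cons (chN e) c))) hdx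
    simp only [dd_apply, map_sum, map_zsmul, Pi.zero_apply, map_zero, cfL_apply] at h0
    rw [Fin.sum_univ_succ] at h0
    simp only [OrdCech.cons_comp_succAbove_succ, Fin.val_succ, Fin.val_zero, pow_succ, mul_neg, mul_one,
      pow_zero, one_smul, neg_smul, Finset.sum_neg_distrib] at h0
    rw [show (Fin.cons (chN e) c : Fin (p + 3) → Fin (n + 1)) ∘ (0 : Fin (p + 3)).succAbove = c from
      funext fun j => by simp] at h0
    show cfL e (dd p y c) = (x c).coeff e
    rw [dd_apply, map_sum]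
    simp only [map_zsmul, cfL_apply, hy]
    linear_combination -h0

theorem subsingleton_Hc_bot {d : ℤ} {p : ℕ} (hp : p + 1 < n) :
    Subsingleton (Hc (⊥ : Ideal (MvPolynomial (Fin (n + 1)) k)) d (p + 1)) :=
  Pair.subsingleton_H _ fun x hx hdx =>
    mem_Bd_of_noNeg hx (mem_fam_bot.1 hdx) fun a _ he =>
      allNeg_range (mem_fam.1 hx a) he (range_ne_univ_of_lt hp a)

theorem phi_strictMono : ∀ (q : ℕ) (σ : Fin (q + 1) → Fin (n + 1)), StrictMono σ →
    OrdCech.phi q σ = Finsupp.single σ 1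
  | 0, _, _ => rfl
  | q + 1, σ, hσ => by
    have h0 : OrdCech.least σ = σ 0 := by
      obtain ⟨l, hl⟩ := OrdCech.least_mem σ
      exact le_antisymm (OrdCech.least_le σ 0) (hl ▸ hσ.monotone (Fin.zero_le l))
    show OrdCech.cone' (OrdCech.least σ) q
      (OrdCech.lin (OrdCech.phi q) (OrdCech.bd q (Finsupp.single σ 1))) = _
    rw [h0, OrdCech.bd_single, map_sum, map_sum, Fin.sum_univ_succ]
    have hf : ∀ j : Fin (q + 2), OrdCech.lin (OrdCech.phi q) (Finsupp.single (σ ∘ j.succAbove) 1) =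
        Finsupp.single (σ ∘ j.succAbove) 1 := fun j => by
      rw [OrdCech.lin_single]
      exact phi_strictMono q _ (hσ.comp (Fin.strictMono_succAbove j))
    simp only [map_zsmul, hf, OrdCech.cone', OrdCech.lin_single]
    rw [if_neg (fun h : (σ ∘ (0 : Fin (q + 2)).succAbove) 0 = σ 0 => absurd (hσ.injective h) (by simp)),
      Finset.sum_eq_zero fun j _ => by rw [if_pos (by simp), smul_zero]]
    have e : (Fin.cons (σ 0) (σ ∘ (0 : Fin (q + 2)).succAbove) : Fin (q + 2) → Fin (n + 1)) = σ := by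
      funext l
      refine Fin.cases ?_ (fun l => ?_) l <;> simp
    rw [e]
    simp

theorem phi_mem_id (σ : Idx n n) :
    OrdCech.phi n σ ∈ AddSubgroup.zmultiples (Finsupp.single (id : Idx n n) (1 : ℤ)) := by
  refine (AddSubgroup.closure_le _).2 ?_ (OrdCech.phi_mem n σ)
  rintro _ ⟨τ, ⟨hτ, -, -⟩, rfl⟩
  rw [show τ = id from hτ.eq_id]
  exact AddSubgroup.mem_zmultiples _

/-- Exponents of the degree zero cohomology. -/
def G0 (n : ℕ) (d : ℤ) : Finset (Expo n) :=
  open Classical in ({0, Finsupp.single 0 d} : Finset (Expo n)).filter fun e => ∀ i, e ∈ allowed d {i}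

theorem mem_G0 {d : ℤ} (hd : d ≤ 0) {e : Expo n} : e ∈ G0 n d ↔ ∀ i, e ∈ allowed d {i} := by
  simp only [G0, Finset.mem_filter, Finset.mem_insert, Finset.mem_singleton, and_iff_right_iff_imp]
  intro h
  rcases Nat.eq_zero_or_pos n with rfl | hn
  · refine Or.inr (Finsupp.ext fun i => ?_)
    rw [Fin.eq_zero i, Finsupp.single_eq_same]
    have := (h 0).1
    simpa [deg] using this
  · haveI : Nontrivial (Fin (n + 1)) := Fin.nontrivial_iff_two_le.2 (by omega)
    have h0 : ∀ i, 0 ≤ e i := fun i => by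
      obtain ⟨j, hj⟩ := exists_ne i
      exact (h j).2 i (Ne.symm hj)
    refine Or.inl (Finsupp.ext fun i => le_antisymm ?_ (h0 i))
    exact (Finset.single_le_sum (fun j _ => h0 j) (Finset.mem_univ i)).trans ((h 0).1.trans_le hd)

/-- Exponents of the top cohomology. -/
def Gn (n : ℕ) (d : ℤ) : Finset (Expo n) :=
  ((Fintype.piFinset fun _ : Fin (n + 1) => Finset.Icc d (-1)).map
    Finsupp.equivFunOnFinite.symm.toEmbedding).filter fun e => deg e = d

theorem mem_Gn {d : ℤ} {e : Expo n} : e ∈ Gn n d ↔ AllNeg e ∧ deg e = d := by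
  simp only [Gn, Finset.mem_filter, Finset.mem_map_equiv, Equiv.symm_symm, Fintype.mem_piFinset, Finset.mem_Icc,
    Finsupp.equivFunOnFinite_apply]
  constructor
  · exact fun ⟨h, he⟩ => ⟨fun i => by linarith [(h i).2], he⟩
  · rintro ⟨h, he⟩
    refine ⟨fun i => ⟨?_, by linarith [h i]⟩, he⟩
    rw [← he, deg, ← Finset.sum_erase_add _ _ (Finset.mem_univ i)]
    have : ∑ j ∈ Finset.univ.erase i, e j ≤ 0 := Finset.sum_nonpos fun j _ => (h j).le
    linarith

section basis

variable (d : ℤ) (p : ℕ) (rep : Idx n p) (G : Finset (Expo n))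

/-- The hypotheses making coefficient extraction at `rep` a coordinate system. -/
structure Coord : Prop where
  bd : ∀ x ∈ Pair.Bd (dd (n := n) (k := k)) (fam (Asub n k d)) (fam (Jsub ⊥ d)) p, ∀ β ∈ G, (x rep).coeff β = 0
  inj : ∀ x ∈ fam (Asub n k d) p, dd p x = 0 → (∀ β ∈ G, (x rep).coeff β = 0) →
    x ∈ Pair.Bd (dd (n := n) (k := k)) (fam (Asub n k d)) (fam (Jsub ⊥ d)) p
  surj : ∀ β ∈ G, ∃ x ∈ fam (Asub n k d) p, dd p x = 0 ∧ x rep = T β

variable {d p rep G}

/-- Coordinates. -/
def coord (hG : Coord (k := k) d p rep G) : Hc (⊥ : Ideal (MvPolynomial (Fin (n + 1)) k)) d p →ₗ[k] (↥G → k) :=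
  Submodule.liftQ _ ((LinearMap.pi fun β : ↥G => (cfL β.1).comp
    (LinearMap.proj rep : V n k p →ₗ[k] L n k)).comp (Submodule.subtype _))
    fun z hz => LinearMap.mem_ker.2 (funext fun β => hG.bd z.1 hz β.1 β.2)

theorem coord_bijective (hG : Coord (k := k) d p rep G) : Function.Bijective (coord hG) := by
  classical
  constructor
  · refine (injective_iff_map_eq_zero _).2 fun x hx => ?_
    obtain ⟨⟨z, hz⟩, rfl⟩ := Pair.cls_surjective _ x
    exact (Pair.cls_eq_zero _).2 (hG.inj z hz.1 (mem_fam_bot.1 hz.2) fun β hβ => congrFun hx ⟨β, hβ⟩)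
  · intro v
    choose x hxA hxd hxr using hG.surj
    have hz : (∑ β : ↥G, v β • x β.1 β.2) ∈ Pair.Z (dd (n := n) (k := k)) (fam (Asub n k d)) (fam (Jsub ⊥ d)) p := by
      refine (Pair.mem_Z _).2 ⟨Submodule.sum_mem _ fun β _ => Submodule.smul_mem _ _ (hxA β.1 β.2), ?_⟩
      rw [mem_fam_bot, map_sum]
      exact Finset.sum_eq_zero fun β _ => by rw [map_smul, hxd, smul_zero]
    refine ⟨Pair.cls _ ⟨_, hz⟩, funext fun γ => ?_⟩
    show cfL γ.1 ((∑ β : ↥G, v β • x β.1 β.2) rep) = v γ
    rw [Finset.sum_apply, map_sum]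
    simp only [Pi.smul_apply, map_smul, hxr, cfL_apply, T, AddMonoidAlgebra.coeff_single, smul_eq_mul]
    rw [Finset.sum_eq_single γ (fun β _ hβ => ?_) (by simp)]
    · simp
    · rw [Finsupp.single_eq_of_ne (fun h => hβ (Subtype.ext h.symm)), mul_zero]

theorem finite_of_coord (hG : Coord (k := k) d p rep G) : Module.Finite k (Hc (⊥ : Ideal (MvPolynomial (Fin (n + 1)) k)) d p) :=
  Module.Finite.of_injective (coord hG) (coord_bijective hG).1

variable [Fintype k]

theorem coeff_frob (h : MvPolynomial (Fin (n + 1)) k) (z : L n k) (β : Expo n) :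
    (toL n k h * z ^ Fintype.card k).coeff β =
      ∑ γ ∈ z.coeff.support, z.coeff γ * (toL n k h).coeff (β - Fintype.card k • γ) := by
  conv_lhs => rw [show z ^ Fintype.card k = FiniteField.frobeniusAlgHom k (L n k) z from rfl,
    ← AddMonoidAlgebra.sum_coeff_single z, Finsupp.sum, map_sum, Finset.mul_sum, AddMonoidAlgebra.coeff_sum,
    Finsupp.finsetSum_apply]
  refine Finset.sum_congr rfl fun γ _ => ?_
  show (toL n k h * AddMonoidAlgebra.single γ (z.coeff γ) ^ Fintype.card k).coeff β = _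
  rw [AddMonoidAlgebra.single_pow, FiniteField.pow_card,
    AddMonoidAlgebra.coeff_mul_single_eq_coeff_mul (β - Fintype.card k • γ) (fun _ _ => eq_sub_iff_add_eq.symm),
    mul_comm]

theorem trace_coord (hG : Coord (k := k) d p rep G) {h : MvPolynomial (Fin (n + 1)) k}
    (hF : Pair.IsMap (dd (n := n) (k := k)) (frob h) (fam (Asub n k d)) (fam (Jsub ⊥ d)) (fam (Asub n k d))
      (fam (Jsub ⊥ d)))
    (hout : ∀ x ∈ fam (Asub n k d) p, dd p x = 0 → ∀ γ, (x rep).coeff γ ≠ 0 → γ ∉ G →
      ∀ β ∈ G, (toL n k h).coeff (β - Fintype.card k • γ) = 0) :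
    LinearMap.trace k _ (Pair.hmap (dd (n := n) (k := k)) hF p) =
      ∑ β ∈ G, (toL n k h).coeff (β - Fintype.card k • β) := by
  classical
  let M : Matrix ↥G ↥G k := fun β γ => (toL n k h).coeff (β.1 - Fintype.card k • γ.1)
  let e := LinearEquiv.ofBijective (coord hG) (coord_bijective hG)
  rw [← LinearMap.trace_conj' _ e, show e.conj (Pair.hmap (dd (n := n) (k := k)) hF p) = Matrix.toLin' M from ?_,
    Matrix.trace_toLin'_eq]
  · exact Finset.sum_coe_sort G fun β => (toL n k h).coeff (β - Fintype.card k • β)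
  · refine LinearMap.ext fun v => ?_
    obtain ⟨y, rfl⟩ := e.surjective v
    obtain ⟨⟨z, hz⟩, rfl⟩ := Pair.cls_surjective _ y
    rw [LinearEquiv.conj_apply_apply, e.symm_apply_apply]
    funext β
    show (toL n k h * z rep ^ Fintype.card k).coeff β.1 = Matrix.mulVec M (fun γ : ↥G => (z rep).coeff γ.1) β
    rw [coeff_frob]
    simp only [Matrix.mulVec, dotProduct, M]
    rw [Finset.sum_coe_sort G fun γ => (toL n k h).coeff (β.1 - Fintype.card k • γ) * (z rep).coeff γ]
    rw [← Finset.sum_filter_add_sum_filter_not (z rep).coeff.support (· ∈ G)]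
    rw [Finset.sum_eq_zero (s := (z rep).coeff.support.filter (· ∉ G)) fun γ hγ => by
      rw [hout z hz.1 (mem_fam_bot.1 hz.2) γ (Finsupp.mem_support_iff.1 (Finset.mem_filter.1 hγ).1)
        (Finset.mem_filter.1 hγ).2 β.1 β.2, mul_zero], add_zero]
    refine (Finset.sum_congr rfl fun γ _ => mul_comm _ _).trans
      (Finset.sum_subset (fun γ hγ => (Finset.mem_filter.1 hγ).2) fun γ hγ hγ' => ?_)
    rw [Finsupp.notMem_support_iff.1 fun hs => hγ' (Finset.mem_filter.2 ⟨hs, hγ⟩), mul_zero]

end basis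

theorem const_of_dd_zero {x : V n k 0} (hx : dd 0 x = 0) (a b : Idx n 0) : x a = x b := by
  have h := congrFun hx ![b 0, a 0]
  rw [dd_apply, Fin.sum_univ_two] at h
  have ea : (![b 0, a 0] : Fin 2 → Fin (n + 1)) ∘ (0 : Fin 2).succAbove = a := by
    funext i; fin_cases i; simp
  have eb : (![b 0, a 0] : Fin 2 → Fin (n + 1)) ∘ (1 : Fin 2).succAbove = b := by
    funext i; fin_cases i; simp
  rw [ea, eb] at h
  simpa [sub_eq_add_neg] using sub_eq_zero.1 (show x a - x b = 0 by simpa [sub_eq_add_neg] using h)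

theorem T_coeff [DecidableEq (Expo n)] (β e : Expo n) : (T β : L n k).coeff e = if β = e then 1 else 0 := by
  simp [T, Finsupp.single_apply]

theorem coord_zero {d : ℤ} (hd : d ≤ 0) : Coord (n := n) (k := k) d 0 (fun _ => 0) (G0 n d) where
  bd x hx β _ := by
    rw [show x = 0 from mem_fam_bot.1 hx]
    rfl
  inj x hx hdx h := by
    refine mem_fam_bot.2 (funext fun a => AddMonoidAlgebra.ext (Finsupp.ext fun e => ?_))
    by_contra hne
    rw [const_of_dd_zero hdx a fun _ => 0] at hne
    refine hne (h e ((mem_G0 hd).2 fun i => ?_))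
    have := mem_fam.1 hx (fun _ => i)
    rw [const_of_dd_zero hdx (fun _ => i) fun _ => 0, Set.range_const] at this
    exact this e hne
  surj β hβ := by
    classical
    refine ⟨fun _ => T β, mem_fam.2 fun a e he => ?_, funext fun c => ?_, rfl⟩
    · rw [T_coeff] at he
      split_ifs at he with h
      · subst h
        refine allowed_mono d ?_ ((mem_G0 hd).1 hβ (a 0))
        simp
      · exact (he rfl).elim
    · rw [dd_apply, Fin.sum_univ_two]
      simp

theorem coord_top {d : ℤ} {p : ℕ} (hp : p + 1 = n) :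
    Coord (n := n) (k := k) d (p + 1) (fun i => Fin.cast (by omega) i) (Gn n d) := by
  subst hp
  refine ⟨fun x hx β hβ => ?_, fun x hx hdx h => ?_, fun β hβ => ?_⟩
  · obtain ⟨b, hb, a, ha, rfl⟩ := (Pair.mem_Bd_succ _).1 hx
    rw [show b = 0 from mem_fam_bot.1 hb, zero_add, dd_apply, ← cfL_apply, map_sum]
    refine Finset.sum_eq_zero fun j _ => ?_
    rw [map_zsmul, cfL_apply, allNeg_range (mem_fam.1 ha _) (mem_Gn.1 hβ).1 (range_ne_univ_of_lt (by omega) _),
      smul_zero]
  · obtain ⟨y, hy, hyx⟩ := exists_cobound (Asub_mono d) (Jsub_mono (J := (⊥ : Ideal (MvPolynomial (Fin (p + 1 + 1)) k))) d)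
      hx (mem_fam_bot.2 hdx)
    have hw : x = (fun σ => OrdCech.lin x (OrdCech.phi (p + 1) σ)) + dd p y := by
      funext σ
      have h1 := hyx σ
      rw [Jsub_bot, Submodule.mem_bot] at h1
      rw [Pi.add_apply, ← sub_eq_iff_eq_add]
      exact sub_eq_zero.1 h1
    rw [hw]
    refine add_mem ?_ ((Pair.mem_Bd_succ _).2 ⟨0, zero_mem _, y, hy, zero_add _⟩)
    refine mem_Bd_of_noNeg (mem_fam.2 fun σ => ?_) ?_ fun σ e he => ?_
    · exact lin_mem (Asub_mono d) hx (OrdCech.incr_le_carr _ _ _ (OrdCech.phi_mem _ σ))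
    · have h2 := congrArg (dd (p + 1)) hw
      rw [hdx, map_add, dd_dd, add_zero] at h2
      exact h2.symm
    · obtain ⟨m, hm⟩ := AddSubgroup.mem_zmultiples_iff.1 (phi_mem_id σ)
      rw [← hm, map_zsmul, OrdCech.lin_single, AddMonoidAlgebra.coeff_smul, Finsupp.smul_apply]
      by_cases hdeg : deg e = d
      · rw [show (id : Idx (p + 1) (p + 1)) = fun i => Fin.cast rfl i from rfl, h e (mem_Gn.2 ⟨he, hdeg⟩), smul_zero]
      · by_contra hne
        exact hdeg ((mem_fam.1 hx id e fun h0 => hne (by rw [h0, smul_zero])).1)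
  · classical
    let c : Idx (p + 1) (p + 1) → ℤ := fun σ => OrdCech.phi (p + 1) σ id
    refine ⟨fun σ => c σ • T β, mem_fam.2 fun σ => ?_, funext fun σ => ?_, ?_⟩
    · by_cases hσ : c σ = 0
      · rw [hσ, zero_smul]
        exact zero_mem _
      · refine Submodule.smul_of_tower_mem _ _ fun e he => ?_
        rw [T_coeff] at he
        split_ifs at he with h
        · subst h
          have hu : Set.range σ = Set.univ := by
            by_contra hne
            refine hσ ?_
            obtain ⟨i, hi⟩ := (Set.ne_univ_iff_exists_notMem _).1 hne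
            have : OrdCech.phi (p + 1) σ ∈ (Finsupp.applyAddHom (id : Idx (p + 1) (p + 1))).ker := by
              refine OrdCech.carr_le (fun τ hτ => ?_) (OrdCech.incr_le_carr _ _ _ (OrdCech.phi_mem (p + 1) σ))
              refine AddMonoidHom.mem_ker.2 (Finsupp.single_eq_of_ne fun h => hi (hτ ?_))
              rw [← h]
              exact ⟨i, rfl⟩
            exact this
          exact ⟨(mem_Gn.1 hβ).2, fun i hi => absurd (hu ▸ Set.mem_univ i) hi⟩
        · exact (he rfl).elim
    · rw [dd_eq_lin]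
      have key : OrdCech.lin (fun σ => c σ • (T β : L (p + 1) k)) =
          ((zmultiplesHom (L (p + 1) k) (T β)).comp (Finsupp.applyAddHom (id : Idx (p + 1) (p + 1)))).comp
            (OrdCech.lin (OrdCech.phi (p + 1))) := OrdCech.lin_ext fun a => by
        rw [OrdCech.lin_single, AddMonoidHom.comp_apply, OrdCech.lin_single]
        rfl
      rw [key, AddMonoidHom.comp_apply, ← OrdCech.bd_phi, OrdCech.phi_eq_zero (by simp), map_zero, map_zero]
      rfl
    · show c _ • T β = T β
      have : c (fun i => Fin.cast rfl i) = 1 := by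
        show OrdCech.phi (p + 1) id id = 1
        rw [phi_strictMono _ _ strictMono_id, Finsupp.single_eq_same]
      rw [this, one_smul]

theorem finite_Hc_bot {d : ℤ} (hd : d ≤ 0) (p : ℕ) :
    Module.Finite k (Hc (⊥ : Ideal (MvPolynomial (Fin (n + 1)) k)) d p) := by
  rcases p with _ | p
  · exact finite_of_coord (coord_zero hd)
  rcases lt_trichotomy (p + 1) n with h | h | h
  · haveI := subsingleton_Hc_bot (k := k) (d := d) h
    infer_instance
  · exact finite_of_coord (coord_top h)
  · haveI := subsingleton_fam (Asub_mono (n := n) (k := k) d)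
      (Jsub_mono (J := (⊥ : Ideal (MvPolynomial (Fin (n + 1)) k))) d) h
    infer_instance

end

end Groth.Agent.H27FulTrace
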