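import Groth.Agent.H27FulTrace.Pair
import Groth.Agent.H10Coh.Pn.Laurent
import Groth.Agent.H15Site.OrdCech
import Mathlib.FieldTheory.Finite.Basic
import Mathlib.RingTheory.MvPolynomial.Homogeneous

/-!
# The algebraic Čech complex of a homogeneous ideal, with Frobenius operators
-/

set_option autoImplicit false

universe u

open MvPolynomial Groth.Agent.H10Coh.Pn Groth.Agent.H15Site

namespace Groth.Agent.H27FulTrace

noncomputable section

variable {n : ℕ} {k : Type u} [Field k]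

/-- Tuples of indices. -/
abbrev Idx (n p : ℕ) : Type := Fin (p + 1) → Fin (n + 1)

/-- Ambient cochains. -/
abbrev V (n : ℕ) (k : Type u) [Field k] (p : ℕ) : Type u := Idx n p → L n k

/-- The differential. -/
def dd (p : ℕ) : V n k p →ₗ[k] V n k (p + 1) :=
  LinearMap.pi fun c => ∑ j : Fin (p + 2), ((-1 : ℤ) ^ (j : ℕ)) • LinearMap.proj (c ∘ j.succAbove)

theorem dd_apply (p : ℕ) (x : V n k p) (c : Idx n (p + 1)) :
    dd p x c = ∑ j : Fin (p + 2), ((-1 : ℤ) ^ (j : ℕ)) • x (c ∘ j.succAbove) := by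
  simp [dd, LinearMap.pi_apply]

theorem dd_eq_lin (p : ℕ) (x : V n k p) (c : Idx n (p + 1)) :
    dd p x c = OrdCech.lin x (OrdCech.bd p (Finsupp.single c 1)) := by
  rw [dd_apply, OrdCech.bd_single, map_sum]
  exact Finset.sum_congr rfl fun j _ => by rw [map_zsmul, OrdCech.lin_single]

theorem lin_dd (p : ℕ) (x : V n k p) (χ : OrdCech.Ch (Fin (n + 1)) (p + 1)) :
    OrdCech.lin (dd p x) χ = OrdCech.lin x (OrdCech.bd p χ) :=
  DFunLike.congr_fun (OrdCech.lin_ext (f := OrdCech.lin (dd p x)) (g := (OrdCech.lin x).comp (OrdCech.bd p))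
    fun c => by rw [OrdCech.lin_single, AddMonoidHom.comp_apply, dd_eq_lin]) χ

theorem dd_dd (p : ℕ) (x : V n k p) : dd (p + 1) (dd p x) = 0 := by
  funext c
  rw [dd_eq_lin, lin_dd, OrdCech.bd_bd, map_zero]
  rfl

/-- A family of submodules indexed by sets of indices gives submodules of cochains. -/
def fam (M : Set (Fin (n + 1)) → Submodule k (L n k)) (p : ℕ) : Submodule k (V n k p) :=
  Submodule.pi Set.univ fun a => M (Set.range a)

theorem mem_fam {M : Set (Fin (n + 1)) → Submodule k (L n k)} {p : ℕ} {x : V n k p} :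
    x ∈ fam M p ↔ ∀ a, x a ∈ M (Set.range a) := by
  simp [fam, Submodule.mem_pi]

theorem lin_mem {M : Set (Fin (n + 1)) → Submodule k (L n k)} (hM : Monotone M) {p : ℕ} {x : V n k p}
    (hx : x ∈ fam M p) {S : Set (Fin (n + 1))} {χ : OrdCech.Ch (Fin (n + 1)) p} (hχ : χ ∈ OrdCech.carr S p) :
    OrdCech.lin x χ ∈ M S :=
  OrdCech.map_carr (OrdCech.lin x) (T := (M S).toAddSubgroup) (fun τ hτ => by
    rw [OrdCech.lin_single]
    exact hM hτ (mem_fam.1 hx τ)) hχ

theorem stable_fam {M : Set (Fin (n + 1)) → Submodule k (L n k)} (hM : Monotone M) :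
    Pair.Stable (dd (n := n) (k := k)) (fam M) := fun p x hx => mem_fam.2 fun c => by
  rw [dd_eq_lin]
  exact lin_mem hM hx (OrdCech.bd_mem_carr (OrdCech.mem_carr subset_rfl))

/-- Cocycles minus their increasing part are coboundaries. -/
theorem exists_cobound {M N : Set (Fin (n + 1)) → Submodule k (L n k)} (hM : Monotone M) (hN : Monotone N)
    {p : ℕ} {x : V n k (p + 1)} (hx : x ∈ fam M (p + 1)) (hdx : dd (p + 1) x ∈ fam N (p + 2)) :
    ∃ y ∈ fam M p, ∀ σ : Idx n (p + 1),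
      x σ - dd p y σ - OrdCech.lin x (OrdCech.phi (p + 1) σ) ∈ N (Set.range σ) := by
  refine ⟨fun σ => OrdCech.lin x (OrdCech.htpy p σ), mem_fam.2 fun σ => lin_mem hM hx (OrdCech.htpy_mem p σ),
    fun σ => ?_⟩
  have h2 := congrArg (OrdCech.lin x) (OrdCech.bd_htpy p σ)
  rw [map_add, map_sub, OrdCech.lin_single] at h2
  have h3 : dd p (fun σ => OrdCech.lin x (OrdCech.htpy p σ)) σ =
      OrdCech.lin x (OrdCech.lin (OrdCech.htpy p) (OrdCech.bd p (Finsupp.single σ 1))) := by
    rw [dd_eq_lin]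
    exact DFunLike.congr_fun (OrdCech.lin_ext
      (f := OrdCech.lin fun σ => OrdCech.lin x (OrdCech.htpy p σ))
      (g := (OrdCech.lin x).comp (OrdCech.lin (OrdCech.htpy p))) fun a => by
        rw [OrdCech.lin_single, AddMonoidHom.comp_apply, OrdCech.lin_single]) _
  have h4 : x σ - dd p (fun σ => OrdCech.lin x (OrdCech.htpy p σ)) σ - OrdCech.lin x (OrdCech.phi (p + 1) σ) =
      OrdCech.lin x (OrdCech.bd (p + 1) (OrdCech.htpy (p + 1) σ)) := by
    rw [h3]
    linear_combination -h2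
  rw [h4, ← lin_dd]
  exact lin_mem hN hdx (OrdCech.htpy_mem (p + 1) σ)

theorem subsingleton_fam {M N : Set (Fin (n + 1)) → Submodule k (L n k)} (hM : Monotone M) (hN : Monotone N)
    {p : ℕ} (hp : n < p) : Subsingleton (Pair.H (dd (n := n) (k := k)) (fam M) (fam N) p) := by
  obtain ⟨p, rfl⟩ := Nat.exists_eq_succ_of_ne_zero (Nat.ne_of_gt (Nat.lt_of_le_of_lt (Nat.zero_le n) hp))
  refine Pair.subsingleton_H _ fun x hx hdx => ?_
  obtain ⟨y, hy, h⟩ := exists_cobound hM hN hx hdx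
  refine (Pair.mem_Bd_succ _).2 ⟨x - dd p y, mem_fam.2 fun σ => ?_, y, hy, sub_add_cancel _ _⟩
  have := h σ
  rwa [OrdCech.phi_eq_zero (by simpa using hp), map_zero, sub_zero] at this

/-- The allowed Laurent polynomials. -/
def Asub (n : ℕ) (k : Type u) [Field k] (d : ℤ) (S : Set (Fin (n + 1))) : Submodule k (L n k) := allowedSub k d S

theorem mem_Asub {d : ℤ} {S : Set (Fin (n + 1))} {z : L n k} :
    z ∈ Asub n k d S ↔ ∀ e, z.coeff e ≠ 0 → e ∈ allowed d S := Iff.rfl

theorem Asub_mono (d : ℤ) : Monotone (Asub n k d) := fun _ _ h _ hz e he => allowed_mono d h (hz e he)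

/-- The part of an ideal in a localization. -/
def Jsub (J : Ideal (MvPolynomial (Fin (n + 1)) k)) (d : ℤ) (S : Set (Fin (n + 1))) : Submodule k (L n k) where
  carrier := {z | z ∈ Asub n k d S ∧ ∃ q : Fin (n + 1) →₀ ℕ, (∀ j, j ∉ S → q j = 0) ∧
    ∃ m ∈ J, toL n k m = z * T (castE n q)}
  zero_mem' := ⟨zero_mem _, 0, fun _ _ => rfl, 0, zero_mem _, by simp⟩
  add_mem' := by
    rintro z w ⟨hz, q, hq, m, hm, e⟩ ⟨hw, q', hq', m', hm', e'⟩
    refine ⟨add_mem hz hw, q + q', fun j hj => by simp [hq j hj, hq' j hj],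
      m * monomial q' 1 + m' * monomial q 1, add_mem (J.mul_mem_right _ hm) (J.mul_mem_right _ hm'), ?_⟩
    rw [map_add, map_mul, map_mul, toL_monomial, toL_monomial, e, e', map_add, ← T_mul]
    simp only [T]
    ring
  smul_mem' := by
    rintro c z ⟨hz, q, hq, m, hm, e⟩
    refine ⟨Submodule.smul_mem _ c hz, q, hq, C c * m, J.mul_mem_left _ hm, ?_⟩
    rw [map_mul, e, show (C c : MvPolynomial (Fin (n + 1)) k) = monomial 0 c from rfl, toL_monomial, map_zero,
      Algebra.smul_def, mul_assoc]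
    rfl

theorem Jsub_le (J : Ideal (MvPolynomial (Fin (n + 1)) k)) (d : ℤ) (S : Set (Fin (n + 1))) :
    Jsub J d S ≤ Asub n k d S := fun _ hz => hz.1

theorem Jsub_mono {J : Ideal (MvPolynomial (Fin (n + 1)) k)} (d : ℤ) : Monotone (Jsub J d) :=
  fun _ _ h _ hz => ⟨Asub_mono d h hz.1, hz.2.choose, fun j hj => hz.2.choose_spec.1 j fun hS => hj (h hS),
    hz.2.choose_spec.2⟩

theorem Jsub_le_of_le {J J' : Ideal (MvPolynomial (Fin (n + 1)) k)} (h : J ≤ J') (d : ℤ) (S : Set (Fin (n + 1))) :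
    Jsub J d S ≤ Jsub J' d S := fun _ ⟨hz, q, hq, m, hm, e⟩ => ⟨hz, q, hq, m, h hm, e⟩

theorem Jsub_bot (d : ℤ) (S : Set (Fin (n + 1))) :
    Jsub (⊥ : Ideal (MvPolynomial (Fin (n + 1)) k)) d S = ⊥ := by
  refine eq_bot_iff.2 fun z ⟨_, q, _, m, hm, e⟩ => ?_
  rw [Ideal.mem_bot.1 hm, map_zero] at e
  exact T_mul_cancel _ z 0 (e.symm.trans (zero_mul _).symm)

theorem isHomogeneous_of_toL {d : ℤ} {S : Set (Fin (n + 1))} {z : L n k} (hz : z ∈ Asub n k d S)
    {q : Fin (n + 1) →₀ ℕ} {m : MvPolynomial (Fin (n + 1)) k} (e : toL n k m = z * T (castE n q)) :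
    m.IsHomogeneous ((q.degree : ℤ) + d).toNat := by
  intro p hp
  have h1 : (toL n k m).coeff (castE n p) ≠ 0 := by
    rw [toL, AddMonoidAlgebra.mapDomainRingHom_apply]
    simpa [AddMonoidAlgebra.coeff_mapDomain, Finsupp.mapDomain_apply (castE_injective n), MvPolynomial.coeff] using! hp
  rw [e, T, AddMonoidAlgebra.coeff_mul_single_eq_coeff_mul (castE n p - castE n q)
    (fun m' _ => eq_sub_iff_add_eq.symm), mul_one] at h1
  have h2 := (hz _ h1).1
  rw [sub_eq_add_neg, deg_add, deg_neg, deg_castE, deg_castE] at h2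
  have h3 : Finsupp.weight (1 : Fin (n + 1) → ℕ) p = p.degree := by rw [Finsupp.degree_eq_weight_one]; rfl
  omega

theorem mul_mem_Asub {d d' : ℤ} {S : Set (Fin (n + 1))} {z w : L n k} (hz : z ∈ Asub n k d S)
    (hw : w ∈ Asub n k d' S) : z * w ∈ Asub n k (d + d') S := by
  classical
  intro e he
  rw [AddMonoidAlgebra.coeff_mul] at he
  obtain ⟨a, ha, he'⟩ := Finset.exists_ne_zero_of_sum_ne_zero he
  obtain ⟨b, hb, hab⟩ := Finset.exists_ne_zero_of_sum_ne_zero he'
  have hab' : a + b = e := by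
    by_contra h
    exact hab (if_neg h)
  subst hab'
  have h1 := hz a (Finsupp.mem_support_iff.1 ha)
  have h2 := hw b (Finsupp.mem_support_iff.1 hb)
  exact ⟨by rw [deg_add, h1.1, h2.1], fun i hi => add_nonneg (h1.2 i hi) (h2.2 i hi)⟩

theorem one_mem_Asub (S : Set (Fin (n + 1))) : (1 : L n k) ∈ Asub n k 0 S := by
  classical
  intro e he
  rw [AddMonoidAlgebra.one_def, AddMonoidAlgebra.coeff_single, Finsupp.single_apply] at he
  split_ifs at he with h
  · subst h
    exact ⟨by simp [deg], fun i _ => le_rfl⟩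
  · exact (he rfl).elim

theorem pow_mem_Asub {d : ℤ} {S : Set (Fin (n + 1))} {z : L n k} (hz : z ∈ Asub n k d S) :
    ∀ r : ℕ, z ^ r ∈ Asub n k (r * d) S
  | 0 => by simpa using one_mem_Asub S
  | r + 1 => by
    rw [pow_succ, Nat.cast_succ, add_mul, one_mul]
    exact mul_mem_Asub (pow_mem_Asub hz r) hz

theorem toL_mem_Asub {i : ℕ} {m : MvPolynomial (Fin (n + 1)) k} (hm : m.IsHomogeneous i)
    (S : Set (Fin (n + 1))) : toL n k m ∈ Asub n k (i : ℤ) S := by
  have h := toL_mul_T_mem (R := k) (d := (i : ℤ)) (S := S) hm 0 (by simp) (fun _ _ => rfl)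
  rwa [map_zero, neg_zero, T_zero, mul_one] at h

/-- Multiplication by a polynomial on cochains. -/
def mulMap (g : MvPolynomial (Fin (n + 1)) k) (p : ℕ) : V n k p →ₗ[k] V n k p :=
  LinearMap.pi fun a => (LinearMap.mulLeft k (toL n k g)).comp (LinearMap.proj a)

theorem mulMap_apply (g : MvPolynomial (Fin (n + 1)) k) (p : ℕ) (x : V n k p) (a : Idx n p) :
    mulMap g p x a = toL n k g * x a := rfl

theorem mulMap_comm (g : MvPolynomial (Fin (n + 1)) k) (p : ℕ) (x : V n k p) :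
    dd p (mulMap g p x) = mulMap g (p + 1) (dd p x) := by
  funext c
  rw [mulMap_apply, dd_apply, dd_apply, Finset.mul_sum]
  exact Finset.sum_congr rfl fun j _ => by rw [mulMap_apply, mul_smul_comm]

section Frobenius

variable [Fintype k]

/-- `a ↦ h a ^ q`. -/
def frob (h : MvPolynomial (Fin (n + 1)) k) (p : ℕ) : V n k p →ₗ[k] V n k p :=
  LinearMap.pi fun a => (LinearMap.mulLeft k (toL n k h)).comp
    ((FiniteField.frobeniusAlgHom k (L n k)).toLinearMap.comp (LinearMap.proj a))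

theorem frob_apply (h : MvPolynomial (Fin (n + 1)) k) (p : ℕ) (x : V n k p) (a : Idx n p) :
    frob h p x a = toL n k h * x a ^ Fintype.card k := rfl

theorem frob_comm (h : MvPolynomial (Fin (n + 1)) k) (p : ℕ) (x : V n k p) :
    dd p (frob h p x) = frob h (p + 1) (dd p x) := by
  funext c
  rw [frob_apply, dd_apply, dd_apply,
    show (∑ j : Fin (p + 2), ((-1 : ℤ) ^ (j : ℕ)) • x (c ∘ j.succAbove)) ^ Fintype.card k =
      FiniteField.frobeniusAlgHom k (L n k) (∑ j : Fin (p + 2), ((-1 : ℤ) ^ (j : ℕ)) • x (c ∘ j.succAbove)) from rfl,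
    map_sum, Finset.mul_sum]
  exact Finset.sum_congr rfl fun j _ => by
    rw [map_zsmul, mul_smul_comm]
    rfl

theorem frob_mul (h g : MvPolynomial (Fin (n + 1)) k) (p : ℕ) (x : V n k p) :
    frob h p (mulMap g p x) = mulMap g p (frob (g ^ (Fintype.card k - 1) * h) p x) := by
  funext a
  rw [frob_apply, mulMap_apply, mulMap_apply, frob_apply, mul_pow, map_mul, map_pow,
    show toL n k g ^ Fintype.card k = toL n k g ^ (Fintype.card k - 1) * toL n k g by
      rw [← pow_succ, Nat.sub_add_cancel Fintype.card_pos]]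
  ring

theorem frob_mem_A {h : MvPolynomial (Fin (n + 1)) k} {i : ℕ} (hh : h.IsHomogeneous i) {d : ℤ}
    (hd : (i : ℤ) + Fintype.card k * d = d) (p : ℕ) {x : V n k p} (hx : x ∈ fam (Asub n k d) p) :
    frob h p x ∈ fam (Asub n k d) p := mem_fam.2 fun a => by
  have := mul_mem_Asub (toL_mem_Asub hh (Set.range a)) (pow_mem_Asub (mem_fam.1 hx a) (Fintype.card k))
  rwa [hd] at this

theorem frob_mem_J {J J' : Ideal (MvPolynomial (Fin (n + 1)) k)} {h : MvPolynomial (Fin (n + 1)) k} {i : ℕ}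
    (hh : h.IsHomogeneous i) {d : ℤ} (hd : (i : ℤ) + Fintype.card k * d = d)
    (hJ : ∀ m ∈ J, h * m ^ Fintype.card k ∈ J') (p : ℕ) {x : V n k p} (hx : x ∈ fam (Jsub J d) p) :
    frob h p x ∈ fam (Jsub J' d) p := mem_fam.2 fun a => by
  refine ⟨mem_fam.1 (frob_mem_A hh hd p (mem_fam.2 fun b => (mem_fam.1 hx b).1)) a, ?_⟩
  obtain ⟨-, q, hq, m, hm, e⟩ := mem_fam.1 hx a
  refine ⟨Fintype.card k • q, fun j hj => by simp [hq j hj], h * m ^ Fintype.card k, hJ m hm, ?_⟩
  rw [frob_apply, map_mul, map_pow, e, mul_pow, mul_assoc]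
  congr 2
  rw [map_nsmul, T, T, AddMonoidAlgebra.single_pow, one_pow]

end Frobenius

/-- Homogeneity, componentwise. -/
def IsHom (J : Ideal (MvPolynomial (Fin (n + 1)) k)) : Prop := ∀ m ∈ J, ∀ i, homogeneousComponent i m ∈ J

theorem exists_component_mul {g : MvPolynomial (Fin (n + 1)) k} {dg : ℕ} (hg : g.IsHomogeneous dg)
    (c : MvPolynomial (Fin (n + 1)) k) (i : ℕ) :
    ∃ c' : MvPolynomial (Fin (n + 1)) k, c'.IsHomogeneous (i - dg) ∧ (i < dg → c' = 0) ∧
      homogeneousComponent i (c * g) = c' * g := by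
  classical
  induction c using MvPolynomial.induction_on' with
  | monomial s a =>
    have hm : (monomial s a * g).IsHomogeneous (s.degree + dg) :=
      (isHomogeneous_monomial a rfl).mul hg
    by_cases h : i = s.degree + dg
    · refine ⟨monomial s a, isHomogeneous_monomial a (by omega), fun hi => absurd hi (by omega), ?_⟩
      rw [homogeneousComponent_of_mem hm, if_pos h]
    · refine ⟨0, isHomogeneous_zero _ _ _, fun _ => rfl, ?_⟩
      rw [homogeneousComponent_of_mem hm, if_neg h, zero_mul]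
  | add p q hp hq =>
    obtain ⟨a, ha, ha0, ea⟩ := hp
    obtain ⟨b, hb, hb0, eb⟩ := hq
    refine ⟨a + b, ha.add hb, fun hi => by rw [ha0 hi, hb0 hi, add_zero], ?_⟩
    rw [add_mul, map_add, ea, eb, add_mul]

theorem isHom_span {s : Set (MvPolynomial (Fin (n + 1)) k)} (hs : ∀ g ∈ s, ∃ d, g.IsHomogeneous d) :
    IsHom (Ideal.span s) := by
  intro m hm i
  induction hm using Submodule.span_induction generalizing i with
  | mem x hx =>
    obtain ⟨d, hd⟩ := hs x hx
    rw [homogeneousComponent_of_mem hd]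
    split_ifs
    · exact Ideal.subset_span hx
    · exact zero_mem _
  | zero => simp
  | add x y _ _ hx hy => rw [map_add]; exact add_mem (hx i) (hy i)
  | smul c x _ hx =>
    rw [smul_eq_mul, mul_comm, ← sum_homogeneousComponent x, Finset.sum_mul, map_sum]
    refine sum_mem fun j _ => ?_
    obtain ⟨c', -, -, e⟩ := exists_component_mul (homogeneousComponent_isHomogeneous j x) c i
    rw [mul_comm, e]
    exact Ideal.mul_mem_left _ _ (hx j)

end

end Groth.Agent.H27FulTrace
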