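import Groth.Agent.H15Site.CechTop
import Mathlib.Algebra.Homology.ShortComplex.Ab
import Mathlib.Algebra.Homology.ShortComplex.HomologicalComplex

/-!
# Classes of Čech cocycles in every degree
-/

set_option autoImplicit false

universe u

open CategoryTheory CategoryTheory.Limits Opposite TopologicalSpace

namespace Groth.Agent.H27FulTrace.Cls

section generic

variable (K L : CochainComplex AddCommGrpCat.{u} ℕ)

/-- Cocycles of a complex. -/
noncomputable abbrev Z0 (p : ℕ) : AddSubgroup (K.X p) := (K.d p (p + 1)).hom.ker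

theorem subtype_comp_d (p : ℕ) : AddCommGrpCat.ofHom (Z0 K p).subtype ≫ K.d p (p + 1) = 0 :=
  AddCommGrpCat.hom_ext (AddMonoidHom.ext fun z => z.2)

/-- The inclusion into cycles. -/
noncomputable def toCyc (p : ℕ) : AddCommGrpCat.of (Z0 K p) ⟶ K.cycles p :=
  K.liftCycles (AddCommGrpCat.ofHom (Z0 K p).subtype) (p + 1) (by simp) (subtype_comp_d K p)

theorem iCycles_injective (p : ℕ) : Function.Injective (K.iCycles p).hom :=
  (AddCommGrpCat.mono_iff_injective _).1 inferInstance

theorem iCycles_toCyc (p : ℕ) (z : Z0 K p) : (K.iCycles p).hom ((toCyc K p).hom z) = (z : K.X p) :=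
  ConcreteCategory.congr_hom (K.liftCycles_i _ (p + 1) (by simp) (subtype_comp_d K p)) z

/-- The class of a cocycle. -/
noncomputable def cls0 (p : ℕ) : Z0 K p →+ K.homology p := (toCyc K p ≫ K.homologyπ p).hom

theorem cls0_surjective (p : ℕ) : Function.Surjective (cls0 K p) := fun c => by
  obtain ⟨y, rfl⟩ := (AddCommGrpCat.epi_iff_surjective (K.homologyπ p)).1 inferInstance c
  have hy : (K.d p (p + 1)).hom ((K.iCycles p).hom y) = 0 :=
    ConcreteCategory.congr_hom (K.iCycles_d p (p + 1)) y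
  refine ⟨⟨(K.iCycles p).hom y, hy⟩, congrArg (K.homologyπ p).hom ?_⟩
  exact iCycles_injective K p (iCycles_toCyc K p ⟨_, hy⟩)

theorem cls0_succ_eq_zero_iff (p : ℕ) (z : Z0 K (p + 1)) :
    cls0 K (p + 1) z = 0 ↔ ∃ w, (K.d p (p + 1)).hom w = (z : K.X (p + 1)) := by
  constructor
  · intro h
    obtain ⟨w, hw⟩ := (ShortComplex.ab_exact_iff _).1
      (ShortComplex.exact_of_g_is_cokernel (ShortComplex.mk _ _ (K.toCycles_comp_homologyπ p (p + 1)))
        (K.homologyIsCokernel p (p + 1) (by simp))) ((toCyc K (p + 1)).hom z) h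
    refine ⟨w, ?_⟩
    have h2 := congrArg (K.iCycles (p + 1)).hom hw
    rw [iCycles_toCyc] at h2
    exact (ConcreteCategory.congr_hom (K.toCycles_i p (p + 1)) w).symm.trans h2
  · rintro ⟨w, hw⟩
    have h : (K.toCycles p (p + 1)).hom w = (toCyc K (p + 1)).hom z := iCycles_injective K (p + 1)
      (((ConcreteCategory.congr_hom (K.toCycles_i p (p + 1)) w).trans hw).trans (iCycles_toCyc K (p + 1) z).symm)
    exact (congrArg (K.homologyπ (p + 1)).hom h).symm.trans
      (ConcreteCategory.congr_hom (K.toCycles_comp_homologyπ p (p + 1)) w)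

theorem cls0_zero_eq_zero_iff (z : Z0 K 0) : cls0 K 0 z = 0 ↔ (z : K.X 0) = 0 := by
  constructor
  · intro h
    haveI : IsIso (K.homologyπ 0) := K.isIso_homologyπ 0 0 (by simp) (K.shape 0 0 (by simp))
    have h2 : (toCyc K 0).hom z = 0 := ((AddCommGrpCat.mono_iff_injective (K.homologyπ 0)).1 inferInstance)
      (h.trans (map_zero (K.homologyπ 0).hom).symm)
    rw [← iCycles_toCyc K 0 z, h2]
    exact map_zero (K.iCycles 0).hom
  · intro h
    have h0 : z = 0 := Subtype.ext h
    rw [h0, map_zero]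

variable {K L}

theorem cls0_map (φ : K ⟶ L) (p : ℕ) (z : Z0 K p) (z' : Z0 L p) (h : (φ.f p).hom z.1 = z'.1) :
    (HomologicalComplex.homologyMap φ p).hom (cls0 K p z) = cls0 L p z' := by
  refine (ConcreteCategory.congr_hom (HomologicalComplex.homologyπ_naturality φ p)
    ((toCyc K p).hom z)).trans (congrArg (L.homologyπ p).hom ?_)
  refine iCycles_injective L p ?_
  refine ((ConcreteCategory.congr_hom (HomologicalComplex.cyclesMap_i φ p)
    ((toCyc K p).hom z)).trans ?_).trans (iCycles_toCyc L p z').symm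
  exact (congrArg (φ.f p).hom (iCycles_toCyc K p z)).trans h

end generic

open Groth.Agent.H15Site Groth.Agent.H15Site.CechTop

variable {X : TopCat.{u}} {ι : Type u} (U : ι → Opens X) (P : (Opens X)ᵒᵖ ⥤ AddCommGrpCat.{u})

/-- Čech cocycles. -/
noncomputable abbrev Zc (p : ℕ) : AddSubgroup (C U P p) := Z0 ((cechComplexFunctor U).obj P) p

/-- The class of a cocycle. -/
noncomputable def cls (p : ℕ) : Zc U P p →+ CohTop.cechH P U p := cls0 ((cechComplexFunctor U).obj P) p

theorem cls_surjective (p : ℕ) : Function.Surjective (cls U P p) := cls0_surjective _ p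

theorem cls_succ_eq_zero_iff (p : ℕ) (z : Zc U P (p + 1)) :
    cls U P (p + 1) z = 0 ↔ ∃ w, (d U P p).hom w = (z : C U P (p + 1)) :=
  cls0_succ_eq_zero_iff ((cechComplexFunctor U).obj P) p z

theorem cls_zero_eq_zero_iff (z : Zc U P 0) : cls U P 0 z = 0 ↔ (z : C U P 0) = 0 :=
  cls0_zero_eq_zero_iff ((cechComplexFunctor U).obj P) z

/-- Functoriality on cocycles. -/
noncomputable def mapZ {P' : (Opens X)ᵒᵖ ⥤ AddCommGrpCat.{u}} (α : P ⟶ P') (p : ℕ) (z : Zc U P p) :
    Zc U P' p :=
  ⟨(mapC U P α p).hom z, by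
    change (d U P' p).hom _ = 0
    rw [d_mapC, show (d U P p).hom z = 0 from z.2, map_zero]⟩

theorem cls_mapZ {P' : (Opens X)ᵒᵖ ⥤ AddCommGrpCat.{u}} (α : P ⟶ P') (p : ℕ) (z : Zc U P p) :
    (HomologicalComplex.homologyMap ((cechComplexFunctor U).map α) p).hom (cls U P p z) =
      cls U P' p (mapZ U P α p z) :=
  cls0_map ((cechComplexFunctor U).map α) p z (mapZ U P α p z) rfl

/-- The class of a cochain killed by the differential. -/
noncomputable def clsC {p : ℕ} (y : C U P p) (h : (d U P p).hom y = 0) : CohTop.cechH P U p :=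
  cls U P p ⟨y, h⟩

theorem clsC_congr {p : ℕ} {y y' : C U P p} (h : (d U P p).hom y = 0) (h' : (d U P p).hom y' = 0) (e : y = y') :
    clsC U P y h = clsC U P y' h' := by
  subst e
  rfl

theorem clsC_add {p : ℕ} {y y' : C U P p} (h : (d U P p).hom y = 0) (h' : (d U P p).hom y' = 0)
    (h'' : (d U P p).hom (y + y') = 0) : clsC U P (y + y') h'' = clsC U P y h + clsC U P y' h' :=
  (map_add (cls U P p) ⟨y, h⟩ ⟨y', h'⟩)

theorem clsC_surjective {p : ℕ} (c : CohTop.cechH P U p) : ∃ y h, clsC U P (p := p) y h = c := by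
  obtain ⟨⟨y, h⟩, e⟩ := cls_surjective U P p c
  exact ⟨y, h, e⟩

theorem clsC_succ_eq_zero_iff {p : ℕ} (y : C U P (p + 1)) (h : (d U P (p + 1)).hom y = 0) :
    clsC U P y h = 0 ↔ ∃ w, (d U P p).hom w = y :=
  cls_succ_eq_zero_iff U P p ⟨y, h⟩

theorem clsC_zero_eq_zero_iff (y : C U P 0) (h : (d U P 0).hom y = 0) : clsC U P y h = 0 ↔ y = 0 :=
  cls_zero_eq_zero_iff U P ⟨y, h⟩

theorem clsC_map {P' : (Opens X)ᵒᵖ ⥤ AddCommGrpCat.{u}} (α : P ⟶ P') {p : ℕ} (y : C U P p)
    (h : (d U P p).hom y = 0) (h' : (d U P' p).hom ((mapC U P α p).hom y) = 0) :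
    (HomologicalComplex.homologyMap ((cechComplexFunctor U).map α) p).hom (clsC U P y h) =
      clsC U P' ((mapC U P α p).hom y) h' :=
  cls_mapZ U P α p ⟨y, h⟩

/-- A map of a group into cocycles, followed by the class. -/
noncomputable def clsHom {A : Type u} [AddCommGroup A] {p : ℕ} (f : A →+ C U P p)
    (hf : ∀ a, (d U P p).hom (f a) = 0) : A →+ CohTop.cechH P U p :=
  AddMonoidHom.mk' (fun a => clsC U P (f a) (hf a)) fun a b => by
    have h'' : (d U P p).hom (f a + f b) = 0 := by rw [← map_add f]; exact hf _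
    exact (clsC_congr U P _ h'' (map_add f a b)).trans (clsC_add U P _ _ h'')

theorem clsHom_apply {A : Type u} [AddCommGroup A] {p : ℕ} (f : A →+ C U P p)
    (hf : ∀ a, (d U P p).hom (f a) = 0) (a : A) : clsHom U P f hf a = clsC U P (f a) (hf a) := rfl

theorem clsHom_surjective {A : Type u} [AddCommGroup A] {p : ℕ} (f : A →+ C U P p)
    (hf : ∀ a, (d U P p).hom (f a) = 0) (hs : ∀ y, (d U P p).hom y = 0 → ∃ a, f a = y) :
    Function.Surjective (clsHom U P f hf) := fun c => by
  obtain ⟨y, h, rfl⟩ := clsC_surjective U P (p := p) c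
  obtain ⟨a, ha⟩ := hs y h
  exact ⟨a, clsC_congr U P (hf a) h ha⟩

end Groth.Agent.H27FulTrace.Cls
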