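import Groth.Agent.H27FulTrace.Sec
import Groth.Agent.H27FulTrace.CechCls
import Groth.Agent.H10Coh.LerayNat
import Groth.Agent.H10Coh.Affine

/-!
# The algebraic complex computes the cohomology of the structure sheaf
-/

set_option autoImplicit false
set_option linter.style.haveILetI false
set_option backward.isDefEq.respectTransparency false

universe u

open CategoryTheory AlgebraicGeometry MvPolynomial TopologicalSpace Opposite
open Groth.Agent.H10Coh Groth.Agent.H10Coh.Pn Groth.Agent.H15Site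

namespace Groth.Agent.H27FulTrace.Link

noncomputable section

attribute [local instance 10000] hasSheafifyAb hasWeakSheafifyAb hasExtAb enoughInjAb

variable {n : ℕ} {k : Type u} [Field k] {X : Scheme.{u}} (i : X ⟶ Proj (CohB1.polyGrading n k))

/-- The presheaf of functions. -/
abbrev PO (X : Scheme.{u}) : (Opens X.toTopCat)ᵒᵖ ⥤ AddCommGrpCat.{u} := (sh (Coh.structureModule X)).obj

/-- Functions as sections of the presheaf. -/
def toP (U : X.Opens) : Γ(X, U) ≃+ (PO X).obj (op U) where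
  toFun s := s
  invFun s := s
  left_inv _ := rfl
  right_inv _ := rfl
  map_add' _ _ := rfl

variable {i}

/-- The section of a Laurent polynomial. -/
def sec {p : ℕ} (a : Fin (p + 1) → Ix.{u} n) : ↥(Asub n k 0 (sup' a)) →+ Γ(X, W i a) :=
  AddMonoidHom.mk' (fun z => (exists_isSec z.2).choose) fun z z' =>
    (exists_isSec (i := i) (z + z').2).choose_spec.unique
      ((exists_isSec z.2).choose_spec.add (exists_isSec z'.2).choose_spec)

theorem isSec_sec {p : ℕ} (a : Fin (p + 1) → Ix.{u} n) (z : ↥(Asub n k 0 (sup' a))) :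
    IsSec i a z (sec a z) := (exists_isSec z.2).choose_spec

theorem sec_eq {p : ℕ} {a : Fin (p + 1) → Ix.{u} n} {z : L n k} (hz : z ∈ Asub n k 0 (sup' a)) {s : Γ(X, W i a)}
    (h : IsSec i a z s) : sec a ⟨z, hz⟩ = s := (isSec_sec a _).unique h

variable (i) in
/-- The Čech cochain of an algebraic cochain. -/
def toC (p : ℕ) : ↥(fam (Asub n k 0) p) →+ CechTop.C (X := X.toTopCat) (cov i) (PO X) p :=
  AddMonoidHom.mk' (fun x => (CechTop.exists_proj_eq (X := X.toTopCat) (cov i) (PO X) fun a =>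
    toP (W i a) (sec a ⟨x.1 (ULift.down ∘ a), mem_fam.1 x.2 _⟩)).choose) fun x y =>
    CechTop.hom_ext _ _ fun a => by
      rw [(CechTop.exists_proj_eq _ _ _).choose_spec a, map_add, (CechTop.exists_proj_eq _ _ _).choose_spec a,
        (CechTop.exists_proj_eq _ _ _).choose_spec a, ← map_add, ← map_add]
      rfl

theorem proj_toC {p : ℕ} (x : ↥(fam (Asub n k 0) p)) (a : Fin (p + 1) → Ix.{u} n) :
    (CechTop.proj (X := X.toTopCat) (cov i) (PO X) a).hom (toC i p x) =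
      toP (W i a) (sec a ⟨x.1 (ULift.down ∘ a), mem_fam.1 x.2 _⟩) :=
  (CechTop.exists_proj_eq _ _ _).choose_spec a

theorem res_toP {U V : X.Opens} (h : V ≤ U) (s : Γ(X, U)) :
    CechTop.res (X := X.toTopCat) (PO X) h (toP U s) = toP V (X.presheaf.map (homOfLE h).op s) := rfl

theorem d_toC {p : ℕ} (x : ↥(fam (Asub n k 0) p)) :
    (CechTop.d (X := X.toTopCat) (cov i) (PO X) p).hom (toC i p x) =
      toC i (p + 1) ⟨dd p x.1, stable_fam (Asub_mono 0) p x.1 x.2⟩ := by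
  refine CechTop.hom_ext _ _ fun c => ?_
  rw [CechTop.proj_d, proj_toC]
  let zj : Fin (p + 2) → ↥(Asub n k 0 (sup' c)) := fun j => ⟨x.1 (ULift.down ∘ c ∘ j.succAbove),
    Asub_mono 0 (by rintro _ ⟨l, rfl⟩; exact ⟨j.succAbove l, rfl⟩) (mem_fam.1 x.2 _)⟩
  have e : (⟨dd p x.1 (ULift.down ∘ c), mem_fam.1 (stable_fam (Asub_mono 0) p x.1 x.2) _⟩ : ↥(Asub n k 0 (sup' c))) =
      ∑ j : Fin (p + 2), ((-1 : ℤ) ^ (j : ℕ)) • zj j := by
    refine Subtype.ext ?_
    rw [AddSubmonoidClass.coe_finsetSum]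
    exact dd_apply p x.1 (ULift.down ∘ c)
  rw [e, map_sum, map_sum]
  refine Finset.sum_congr rfl fun j _ => ?_
  rw [map_zsmul, map_zsmul, proj_toC]
  have hs : sec (i := i) c (zj j) = X.presheaf.map (homOfLE (CechTop.cap_comp_le (X := X.toTopCat) (cov i) c j.succAbove)).op
      (sec (i := i) (c ∘ j.succAbove) ⟨x.1 (ULift.down ∘ (c ∘ j.succAbove)), mem_fam.1 x.2 _⟩) :=
    sec_eq _ ((isSec_sec (i := i) (c ∘ j.succAbove) ⟨x.1 (ULift.down ∘ (c ∘ j.succAbove)), mem_fam.1 x.2 _⟩).res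
      (CechTop.cap_comp_le (X := X.toTopCat) (cov i) c j.succAbove)
      (by rintro _ ⟨l, rfl⟩; exact ⟨j.succAbove l, rfl⟩))
  rw [hs, ← res_toP]

variable [IsClosedImmersion i]

theorem toC_eq_zero_iff {p : ℕ} (x : ↥(fam (Asub n k 0) p)) : toC i p x = 0 ↔ x.1 ∈ fam (Jsub (idl i) 0) p := by
  constructor
  · intro h
    refine mem_fam.2 fun b => ?_
    have h2 := proj_toC (i := i) x (ULift.up.{u} ∘ b)
    rw [h, map_zero, eq_comm, map_eq_zero_iff _ (toP _).injective] at h2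
    have h3 := isSec_sec (i := i) (ULift.up.{u} ∘ b) ⟨x.1 (ULift.down ∘ (ULift.up.{u} ∘ b)), mem_fam.1 x.2 _⟩
    rw [h2] at h3
    exact (isSec_zero_iff (mem_fam.1 x.2 _)).1 h3
  · intro h
    refine CechTop.hom_ext _ _ fun a => ?_
    rw [proj_toC, map_zero, map_eq_zero_iff _ (toP _).injective]
    exact sec_eq _ ((isSec_zero_iff (mem_fam.1 x.2 _)).2 (mem_fam.1 h _))

theorem toC_surjective (p : ℕ) : Function.Surjective (toC i p) := fun y => by
  choose z hzA hz using fun b : Idx n p => exists_isSec_surj (a := ULift.up.{u} ∘ b)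
    ((toP _).symm ((CechTop.proj (X := X.toTopCat) (cov i) (PO X) (ULift.up.{u} ∘ b)).hom y))
  refine ⟨⟨z, mem_fam.2 fun b => hzA b⟩, CechTop.hom_ext _ _ fun a => ?_⟩
  rw [proj_toC]
  exact (congrArg (toP _) (sec_eq _ (hz (ULift.down ∘ a)))).trans ((toP _).apply_symm_apply _)

theorem d_toC_eq_zero {p : ℕ} (z : ↥(Pair.Z (dd (n := n) (k := k)) (fam (Asub n k 0)) (fam (Jsub (idl i) 0)) p)) :
    (CechTop.d (X := X.toTopCat) (cov i) (PO X) p).hom (toC i p ⟨z.1, z.2.1⟩) = 0 := by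
  rw [d_toC]
  exact (toC_eq_zero_iff _).2 z.2.2

variable (i) in
/-- Algebraic cocycles as Čech cochains. -/
def toCZ (p : ℕ) : ↥(Pair.Z (dd (n := n) (k := k)) (fam (Asub n k 0)) (fam (Jsub (idl i) 0)) p) →+
    CechTop.C (X := X.toTopCat) (cov i) (PO X) p :=
  (toC i p).comp (Submodule.inclusion (inf_le_left :
    Pair.Z (dd (n := n) (k := k)) (fam (Asub n k 0)) (fam (Jsub (idl i) 0)) p ≤ fam (Asub n k 0) p)).toAddMonoidHom

theorem toCZ_apply (p : ℕ) (z : ↥(Pair.Z (dd (n := n) (k := k)) (fam (Asub n k 0)) (fam (Jsub (idl i) 0)) p)) :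
    toCZ i p z = toC i p ⟨z.1, z.2.1⟩ := rfl

theorem d_toCZ (p : ℕ) (z : ↥(Pair.Z (dd (n := n) (k := k)) (fam (Asub n k 0)) (fam (Jsub (idl i) 0)) p)) :
    (CechTop.d (X := X.toTopCat) (cov i) (PO X) p).hom (toCZ i p z) = 0 := by
  rw [toCZ_apply]
  exact d_toC_eq_zero z

variable (i) in
/-- Algebraic cocycles to Čech classes. -/
def toCech (p : ℕ) : ↥(Pair.Z (dd (n := n) (k := k)) (fam (Asub n k 0)) (fam (Jsub (idl i) 0)) p) →+
    CohTop.cechH (PO X) (cov i) p :=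
  Cls.clsHom (cov i) (PO X) (toCZ i p) (d_toCZ p)

theorem toCech_surjective (p : ℕ) : Function.Surjective (toCech i p) :=
  Cls.clsHom_surjective _ _ _ _ fun y hy => by
    obtain ⟨x, rfl⟩ := toC_surjective p y
    rw [d_toC, toC_eq_zero_iff] at hy
    exact ⟨⟨x.1, x.2, hy⟩, rfl⟩

theorem toCech_eq_zero_iff : ∀ (p : ℕ)
    (z : ↥(Pair.Z (dd (n := n) (k := k)) (fam (Asub n k 0)) (fam (Jsub (idl i) 0)) p)),
    toCech i p z = 0 ↔ (z : V n k p) ∈ Pair.Bd (dd (n := n) (k := k)) (fam (Asub n k 0)) (fam (Jsub (idl i) 0)) p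
  | 0, z => by
    rw [toCech, Cls.clsHom_apply, Cls.clsC_zero_eq_zero_iff, toCZ_apply]
    exact toC_eq_zero_iff _
  | p + 1, z => by
    rw [toCech, Cls.clsHom_apply, Cls.clsC_succ_eq_zero_iff, toCZ_apply]
    refine ⟨?_, ?_⟩
    · rintro ⟨w, hw⟩
      obtain ⟨y, rfl⟩ := toC_surjective p w
      rw [d_toC] at hw
      have h2 : toC i (p + 1) (⟨z.1, z.2.1⟩ - ⟨dd p y.1, stable_fam (Asub_mono 0) p y.1 y.2⟩) = 0 := by
        rw [map_sub, hw]
        exact sub_self _
      exact (Pair.mem_Bd_succ _).2 ⟨z.1 - dd p y.1, (toC_eq_zero_iff _).1 h2, y.1, y.2, sub_add_cancel _ _⟩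
    · intro h
      obtain ⟨b, hb, y, hy, e⟩ := (Pair.mem_Bd_succ _).1 h
      refine ⟨toC i p ⟨y, hy⟩, ?_⟩
      rw [d_toC]
      have h2 : toC i (p + 1) (⟨z.1, z.2.1⟩ - ⟨dd p y, stable_fam (Asub_mono 0) p y hy⟩) = 0 :=
        (toC_eq_zero_iff _).2 (by
          show z.1 - dd p y ∈ _
          rw [← e, add_sub_cancel_right]
          exact hb)
      rw [map_sub, sub_eq_zero] at h2
      exact h2.symm

variable (i) in
/-- Algebraic cohomology is Čech cohomology. -/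
def cechEquiv (p : ℕ) : Hc (idl i) 0 p ≃+ CohTop.cechH (PO X) (cov i) p :=
  LerayNat.equivOfKer ((Pair.cls (dd (n := n) (k := k))).toAddMonoidHom) (toCech i p) (Pair.cls_surjective _)
    (toCech_surjective p) (by
      ext z
      rw [AddMonoidHom.mem_ker, AddMonoidHom.mem_ker, toCech_eq_zero_iff]
      exact Pair.cls_eq_zero _)

theorem cechEquiv_cls (p : ℕ) (z : ↥(Pair.Z (dd (n := n) (k := k)) (fam (Asub n k 0)) (fam (Jsub (idl i) 0)) p)) :
    cechEquiv i p (Pair.cls _ z) = toCech i p z :=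
  LerayNat.equivOfKer_apply _ _ _ _ _ z

theorem iSup_cov : (⊤ : X.Opens) ≤ iSup (cov i) := fun x _ => by
  obtain ⟨l, hl⟩ := Opens.mem_iSup.1 ((H11Proj.ProjSpace.iSup_basicOpen n k).ge (Set.mem_univ (i.base x)))
  exact Opens.mem_iSup.2 ⟨⟨l⟩, hl⟩

theorem isAffineOpen_W {p : ℕ} (a : Fin (p + 1) → Ix.{u} n) : IsAffineOpen (W i a) := by
  obtain ⟨t, -, -, hW⟩ := W_localization (i := i) a
  rw [hW]
  exact ((Proj.isAffineOpen_basicOpen _ _ (xv_mem (k := k) (a 0)) Nat.one_pos).preimage i).basicOpen t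

theorem acy : LerayNat.Acy (X := X.toTopCat) (cov i) (sh (Coh.structureModule X)) := fun _ a q =>
  @subsingleton_HnM_of_isAffineOpen _ (Coh.structureModule X) isQuasicoherent_unit _ (isAffineOpen_W a) q

variable (i) in
/-- Algebraic cohomology is the cohomology of the structure sheaf. -/
def hhEquiv (p : ℕ) : Hc (idl i) 0 p ≃+ Coh.HH X (Coh.structureModule X) p :=
  ((cechEquiv i p).trans ((LerayNat.lv (X := X.toTopCat) (U := cov i) (V := ⊤) (fun _ => le_top) iSup_cov p).e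
    (sh (Coh.structureModule X)) acy)).trans (HHEquiv (Coh.structureModule X) p).symm

theorem hhEquiv_map (α : sh (Coh.structureModule X) ⟶ sh (Coh.structureModule X))
    {θ : ∀ p, V n k p →ₗ[k] V n k p}
    (hθ : Pair.IsMap (dd (n := n) (k := k)) θ (fam (Asub n k 0)) (fam (Jsub (idl i) 0)) (fam (Asub n k 0))
      (fam (Jsub (idl i) 0)))
    (hc : ∀ (p : ℕ) (a : Fin (p + 1) → Ix.{u} n) (x : ↥(fam (Asub n k 0) p)),
      (α.hom.app (op (W i a))).hom (toP (W i a) (sec a ⟨x.1 (ULift.down ∘ a), mem_fam.1 x.2 _⟩)) =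
        toP (W i a) (sec a ⟨θ p x.1 (ULift.down ∘ a), mem_fam.1 (hθ.mapA p x.1 x.2) _⟩))
    (p : ℕ) (y : Hc (idl i) 0 p) :
    hhEquiv i p (Pair.hmap _ hθ p y) = Sheaf.H.map α p (hhEquiv i p y) := by
  obtain ⟨z, rfl⟩ := Pair.cls_surjective _ y
  refine (HHEquiv (Coh.structureModule X) p).injective ?_
  refine Eq.trans ?_ (topEquiv_map α p _).symm
  show HHEquiv (Coh.structureModule X) p ((HHEquiv (Coh.structureModule X) p).symm _) =
    (HHEquiv (Coh.structureModule X) p ((HHEquiv (Coh.structureModule X) p).symm _)).comp _ _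
  erw [AddEquiv.apply_symm_apply, AddEquiv.apply_symm_apply]
  refine Eq.trans ?_ (((LerayNat.lv (X := X.toTopCat) (U := cov i) (V := ⊤) (fun _ => le_top) iSup_cov p).nat α
    acy acy _).trans (LerayNat.hmap_apply _ _ _ _))
  refine congrArg (fun t => ((LerayNat.lv (X := X.toTopCat) (U := cov i) (V := ⊤) (fun _ => le_top) iSup_cov p).e
    (sh (Coh.structureModule X)) acy) t) (?_ : cechEquiv i p (Pair.hmap _ hθ p (Pair.cls _ z)) =
      LerayNat.cmap (U := cov i) α p (cechEquiv i p (Pair.cls _ z)))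
  rw [Pair.hmap_cls, cechEquiv_cls, cechEquiv_cls, toCech, Cls.clsHom_apply, Cls.clsHom_apply]
  have e : toC i p ⟨θ p z.1, hθ.mapA p z.1 z.2.1⟩ =
      (CechTop.mapC (X := X.toTopCat) (cov i) (PO X) α.hom p).hom (toC i p ⟨z.1, z.2.1⟩) := by
    refine CechTop.hom_ext _ _ fun a => ?_
    refine (proj_toC _ a).trans ((hc p a ⟨z.1, z.2.1⟩).symm.trans ?_)
    refine Eq.trans ?_ (CechTop.proj_mapC (cov i) (PO X) α.hom _ a).symm
    rw [proj_toC]
  have hd : (CechTop.d (X := X.toTopCat) (cov i) (PO X) p).hom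
      ((CechTop.mapC (X := X.toTopCat) (cov i) (PO X) α.hom p).hom (toC i p ⟨z.1, z.2.1⟩)) = 0 := by
    rw [CechTop.d_mapC, d_toC_eq_zero, map_zero]
  exact (Cls.clsC_congr _ _ _ hd e).trans (Cls.clsC_map _ _ α.hom _ _ hd).symm

end

end Groth.Agent.H27FulTrace.Link
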