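import Groth.Agent.H27FulTrace.Base

/-!
# Sums of forms over the cone of an ideal, and the trace for projective space
-/

set_option autoImplicit false

universe u

open MvPolynomial Groth.Agent.H10Coh.Pn

namespace Groth.Agent.H27FulTrace

noncomputable section

variable {n : ℕ} {k : Type u} [Field k] [Fintype k]

open Classical in
/-- The nonzero points of the cone of `J`. -/
def cone (J : Ideal (MvPolynomial (Fin (n + 1)) k)) : Finset (Fin (n + 1) → k) :=
  Finset.univ.filter fun v => v ≠ 0 ∧ ∀ m ∈ J, eval v m = 0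

theorem mem_cone {J : Ideal (MvPolynomial (Fin (n + 1)) k)} {v : Fin (n + 1) → k} :
    v ∈ cone J ↔ v ≠ 0 ∧ ∀ m ∈ J, eval v m = 0 := by
  simp [cone]

/-- The sum of `h` over the cone. -/
def coneSum (J : Ideal (MvPolynomial (Fin (n + 1)) k)) (h : MvPolynomial (Fin (n + 1)) k) : k :=
  ∑ v ∈ cone J, eval v h

theorem two_le_card : 2 ≤ Fintype.card k := Fintype.one_lt_card

theorem coneSum_sup_span (J : Ideal (MvPolynomial (Fin (n + 1)) k)) (g h : MvPolynomial (Fin (n + 1)) k) :
    coneSum (J ⊔ Ideal.span {g}) h = coneSum J h - coneSum J (g ^ (Fintype.card k - 1) * h) := by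
  classical
  rw [coneSum, coneSum, coneSum, ← Finset.sum_sub_distrib]
  have hc : cone (J ⊔ Ideal.span {g}) = (cone J).filter fun v => eval v g = 0 := by
    ext v
    simp only [mem_cone, Finset.mem_filter]
    refine ⟨fun hv => ⟨⟨hv.1, fun m hm => hv.2 m (Submodule.mem_sup_left hm)⟩,
      hv.2 g (Submodule.mem_sup_right (Ideal.mem_span_singleton_self g))⟩, fun hv => ⟨hv.1.1, fun m hm => ?_⟩⟩
    obtain ⟨a, ha, b, hb, rfl⟩ := Submodule.mem_sup.1 hm
    obtain ⟨c, rfl⟩ := Ideal.mem_span_singleton'.1 hb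
    rw [map_add, map_mul, hv.1.2 a ha, hv.2, mul_zero, add_zero]
  rw [hc, Finset.sum_filter]
  refine Finset.sum_congr rfl fun v _ => ?_
  rw [map_mul, map_pow]
  split_ifs with h0
  · rw [h0, zero_pow (by have := two_le_card (k := k); omega), zero_mul, sub_zero]
  · rw [FiniteField.pow_card_sub_one_eq_one _ h0, one_mul, sub_self]

theorem sum_pow_eq (a : ℕ) :
    ∑ x : k, x ^ a = if 0 < a ∧ Fintype.card k - 1 ∣ a then (-1 : k) else 0 := by
  classical
  rcases Nat.eq_zero_or_pos a with rfl | ha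
  · simp [FiniteField.cast_card_eq_zero]
  · rw [Fintype.sum_eq_add_sum_compl 0, zero_pow ha.ne', zero_add]
    have : ∑ x ∈ ({0}ᶜ : Finset k), x ^ a = ∑ x : kˣ, (x ^ a : k) := by
      refine (Finset.sum_bij' (fun (x : kˣ) _ => (x : k)) (fun x hx => Units.mk0 x (by simpa using hx))
        (fun x _ => by simp) (fun _ _ => Finset.mem_univ _) (fun x _ => by simp) (fun x _ => by simp)
        (fun _ _ => rfl)).symm
    rw [this, FiniteField.sum_pow_units]
    simp [ha]

theorem sum_eval (h : MvPolynomial (Fin (n + 1)) k) :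
    ∑ v : Fin (n + 1) → k, eval v h = (-1) ^ (n + 1) *
      ∑ α ∈ h.support.filter (fun α => ∀ i, 0 < α i ∧ Fintype.card k - 1 ∣ α i), coeff α h := by
  classical
  simp only [eval_eq']
  rw [Finset.sum_comm, Finset.sum_filter, Finset.mul_sum]
  refine Finset.sum_congr rfl fun α _ => ?_
  rw [← Finset.mul_sum, ← Fintype.prod_sum (fun i (x : k) => x ^ α i)]
  simp only [sum_pow_eq]
  split_ifs with h'
  · rw [Finset.prod_congr rfl fun i _ => if_pos (h' i), Finset.prod_const, Finset.card_univ, Fintype.card_fin]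
    ring
  · push Not at h'
    obtain ⟨i, hi⟩ := h'
    rw [Finset.prod_eq_zero (Finset.mem_univ i) (if_neg fun h2 => hi h2.1 h2.2), mul_zero, mul_zero]

theorem coneSum_bot (h : MvPolynomial (Fin (n + 1)) k) :
    coneSum ⊥ h = (-1) ^ (n + 1) *
      ∑ α ∈ h.support.filter (fun α => ∀ i, 0 < α i ∧ Fintype.card k - 1 ∣ α i), coeff α h - constantCoeff h := by
  classical
  rw [← sum_eval, Fintype.sum_eq_add_sum_compl 0, eval_zero, coneSum,
    show cone (⊥ : Ideal (MvPolynomial (Fin (n + 1)) k)) = ({0}ᶜ : Finset _) from Finset.ext fun v => by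
      simp [mem_cone]]
  ring

theorem coeff_toL (h : MvPolynomial (Fin (n + 1)) k) (α : Fin (n + 1) →₀ ℕ) :
    (toL n k h).coeff (castE n α) = coeff α h := by
  rw [toL, AddMonoidAlgebra.mapDomainRingHom_apply]
  simp [AddMonoidAlgebra.coeff_mapDomain, Finsupp.mapDomain_apply (castE_injective n)]
  rfl

theorem sub_smul_apply (β : Expo n) (i : Fin (n + 1)) :
    (β - Fintype.card k • β) i = ((Fintype.card k - 1 : ℕ) : ℤ) * (-β i) := by
  rw [Finsupp.sub_apply, Finsupp.smul_apply, nsmul_eq_mul, Nat.cast_sub Fintype.card_pos]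
  ring

theorem sum_Gn {e : ℕ} {h : MvPolynomial (Fin (n + 1)) k} (hh : h.IsHomogeneous (e * (Fintype.card k - 1))) :
    ∑ β ∈ Gn n (-(e : ℤ)), (toL n k h).coeff (β - Fintype.card k • β) =
      ∑ α ∈ h.support.filter (fun α => ∀ i, 0 < α i ∧ Fintype.card k - 1 ∣ α i), coeff α h := by
  have hq : 1 ≤ Fintype.card k - 1 := by have := two_le_card (k := k); omega
  let al : Expo n → (Fin (n + 1) →₀ ℕ) := fun β =>
    Finsupp.equivFunOnFinite.symm fun i => (Fintype.card k - 1) * (-β i).toNat
  have hal : ∀ β ∈ Gn n (-(e : ℤ)), castE n (al β) = β - Fintype.card k • β := fun β hβ => Finsupp.ext fun i => by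
    rw [castE_apply, sub_smul_apply]
    show (((Fintype.card k - 1) * (-β i).toNat : ℕ) : ℤ) = _
    rw [Nat.cast_mul, Int.toNat_of_nonneg (by linarith [(mem_Gn.1 hβ).1 i])]
  refine Finset.sum_bij_ne_zero (fun β _ _ => al β) (fun β hβ h0 => ?_) (fun a ha _ b hb _ hab => ?_)
    (fun α hα hne => ?_) (fun β hβ _ => by rw [← hal β hβ, coeff_toL])
  · rw [← hal β hβ, coeff_toL] at h0
    refine Finset.mem_filter.2 ⟨mem_support_iff.2 h0, fun i => ⟨?_, dvd_mul_right _ _⟩⟩
    have := (mem_Gn.1 hβ).1 i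
    exact Nat.mul_pos hq (by omega)
  · refine Finsupp.ext fun i => ?_
    have h1 := DFunLike.congr_fun hab i
    simp only [al, Finsupp.equivFunOnFinite_symm_apply_apply] at h1
    have h2 := Nat.eq_of_mul_eq_mul_left hq h1
    have ha' := (mem_Gn.1 ha).1 i
    have hb' := (mem_Gn.1 hb).1 i
    omega
  · obtain ⟨hs, hgood⟩ := Finset.mem_filter.1 hα
    choose hpos c hc using hgood
    let β : Expo n := Finsupp.equivFunOnFinite.symm fun i => -(c i : ℤ)
    have hβ : β ∈ Gn n (-(e : ℤ)) := by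
      refine mem_Gn.2 ⟨fun i => ?_, ?_⟩
      · have : 0 < c i := Nat.pos_of_mul_pos_left ((hc i) ▸ hpos i)
        simp only [β, Finsupp.equivFunOnFinite_symm_apply_apply]
        omega
      · have hd : α.degree = e * (Fintype.card k - 1) := by
          rw [Finsupp.degree_eq_weight_one]
          exact hh (mem_support_iff.1 hs)
        rw [Finsupp.degree_apply, Finset.sum_subset (Finset.subset_univ _) fun i _ hi =>
          Finsupp.notMem_support_iff.1 hi, Finset.sum_congr rfl fun i _ => hc i, ← Finset.mul_sum,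
          mul_comm e, mul_right_inj' (by omega)] at hd
        rw [← hd]
        simp [deg, β, Nat.cast_sum, Finset.sum_neg_distrib]
    have hal' : al β = α := Finsupp.ext fun i => by
      simp [al, β, hc i]
    refine ⟨β, hβ, ?_, hal'⟩
    rw [← hal β hβ, coeff_toL, hal']
    exact hne

theorem G0_eq {e : ℕ} : G0 n (-(e : ℤ)) = if e = 0 then {0} else if n = 0 then Gn n (-(e : ℤ)) else ∅ := by
  ext β
  rw [mem_G0 (by omega)]
  split_ifs with he hn
  · subst he
    rw [Finset.mem_singleton]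
    refine ⟨fun h => ?_, fun h i => by subst h; exact ⟨by simp [deg], fun _ _ => le_rfl⟩⟩
    have h' : β ∈ G0 n (-((0 : ℕ) : ℤ)) := (mem_G0 (by omega)).2 h
    classical
    have h'' := (Finset.mem_filter.1 h').1
    simpa using h''
  · subst hn
    rw [mem_Gn]
    constructor
    · intro h
      refine ⟨fun i => ?_, (h 0).1⟩
      have h0 : deg β = β 0 := by simp [deg]
      rw [Fin.eq_zero i, ← h0, (h 0).1]
      omega
    · exact fun h i => ⟨h.2, fun j hj => absurd (Fin.eq_zero j ▸ (Fin.eq_zero i).symm) hj⟩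
  · refine iff_of_false (fun h => ?_) (Finset.notMem_empty _)
    haveI : Nontrivial (Fin (n + 1)) := Fin.nontrivial_iff_two_le.2 (by omega)
    have h0 : ∀ i, 0 ≤ β i := fun i => by
      obtain ⟨j, hj⟩ := exists_ne i
      exact (h j).2 i (Ne.symm hj)
    have h1 : (0 : ℤ) ≤ deg β := Finset.sum_nonneg fun j _ => h0 j
    rw [(h 0).1] at h1
    omega

theorem constantCoeff_eq_zero {e : ℕ} (he : e ≠ 0) {h : MvPolynomial (Fin (n + 1)) k}
    (hh : h.IsHomogeneous (e * (Fintype.card k - 1))) : constantCoeff h = 0 := by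
  rw [constantCoeff_eq]
  exact hh.coeff_eq_zero (by
    rw [map_zero]
    exact (Nat.mul_pos (Nat.pos_of_ne_zero he) (by have := two_le_card (k := k); omega)).ne)

theorem base_formula {e : ℕ} {h : MvPolynomial (Fin (n + 1)) k} (hh : h.IsHomogeneous (e * (Fintype.card k - 1))) :
    ∑ β ∈ G0 n (-(e : ℤ)), (toL n k h).coeff (β - Fintype.card k • β) +
      (if n = 0 then 0 else (-1 : k) ^ n * ∑ β ∈ Gn n (-(e : ℤ)), (toL n k h).coeff (β - Fintype.card k • β)) =
      -coneSum ⊥ h := by
  rw [coneSum_bot, ← sum_Gn hh, G0_eq]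
  rcases eq_or_ne e 0 with he | he <;> rcases eq_or_ne n 0 with hn | hn
  · subst he
    subst hn
    have hG : Gn 0 (-((0 : ℕ) : ℤ)) = ∅ := Finset.eq_empty_of_forall_notMem fun β hβ => by
      have h1 := mem_Gn.1 hβ
      have h2 := h1.1 0
      have h3 : deg β = β 0 := by simp [deg]
      rw [← h3, h1.2] at h2
      omega
    rw [hG, if_pos rfl, if_pos rfl, Finset.sum_singleton, Finset.sum_empty,
      show (0 : Expo 0) - Fintype.card k • 0 = castE 0 0 by simp, coeff_toL, constantCoeff_eq]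
    ring
  · subst he
    rw [if_pos rfl, if_neg hn, Finset.sum_singleton,
      show (0 : Expo n) - Fintype.card k • 0 = castE n 0 by simp, coeff_toL, constantCoeff_eq]
    ring
  · rw [if_neg he, if_pos hn, if_pos hn, constantCoeff_eq_zero he hh]
    subst hn
    ring
  · rw [if_neg he, if_neg hn, if_neg hn, Finset.sum_empty, constantCoeff_eq_zero he hh]
    ring

end

end Groth.Agent.H27FulTrace
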