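import Groth.Agent.H27FulTrace.Trace
import Groth.Agent.H27FulTrace.Sums
import Mathlib.RingTheory.Polynomial.Basic

/-!
# Finiteness and the trace of Frobenius, by induction on the equations
-/

set_option autoImplicit false
set_option linter.style.haveILetI false

universe u

open MvPolynomial Groth.Agent.H10Coh.Pn

namespace Groth.Agent.H27FulTrace

noncomputable section

variable {n : ℕ} {k : Type u} [Field k]




/-- Generated by finitely many forms. -/
def HGen (J : Ideal (MvPolynomial (Fin (n + 1)) k)) : Prop :=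
  ∃ s : Finset (MvPolynomial (Fin (n + 1)) k), (∀ g ∈ s, ∃ d, g.IsHomogeneous d) ∧
    J = Ideal.span (s : Set (MvPolynomial (Fin (n + 1)) k))

theorem HGen.isHom {J : Ideal (MvPolynomial (Fin (n + 1)) k)} (h : HGen J) : IsHom J := by
  obtain ⟨s, hs, rfl⟩ := h
  exact isHom_span hs

/-- Induction on the forms generating an ideal. -/
theorem HGen.induction {P : Ideal (MvPolynomial (Fin (n + 1)) k) → Prop} (h0 : P ⊥)
    (h1 : ∀ J g, HGen J → (∃ dg, g.IsHomogeneous dg) → P J → P (J ⊔ Ideal.span {g}))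
    {J : Ideal (MvPolynomial (Fin (n + 1)) k)} (hJ : HGen J) : P J := by
  classical
  obtain ⟨s, hs, rfl⟩ := hJ
  induction s using Finset.induction_on with
  | empty => simpa using h0
  | insert g s hg ih =>
    have hs' : ∀ a ∈ s, ∃ d, a.IsHomogeneous d := fun a ha => hs a (Finset.mem_insert_of_mem ha)
    rw [Finset.coe_insert, Ideal.span_insert, sup_comm]
    exact h1 _ g ⟨s, hs', rfl⟩ (hs g (Finset.mem_insert_self g s)) (ih hs')

/-- The forms multiplying `g` into `J`. -/
def colonIdeal (J : Ideal (MvPolynomial (Fin (n + 1)) k)) (g : MvPolynomial (Fin (n + 1)) k) :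
    Ideal (MvPolynomial (Fin (n + 1)) k) :=
  Ideal.span {m | (∃ i, m.IsHomogeneous i) ∧ g * m ∈ J}

theorem colon_hGen (J : Ideal (MvPolynomial (Fin (n + 1)) k)) (g : MvPolynomial (Fin (n + 1)) k) :
    HGen (colonIdeal J g) := by
  obtain ⟨s, hs, e⟩ := (Submodule.fg_span_iff_fg_span_finset_subset _).1
    (IsNoetherian.noetherian (Submodule.span (MvPolynomial (Fin (n + 1)) k)
      {m : MvPolynomial (Fin (n + 1)) k | (∃ i, m.IsHomogeneous i) ∧ g * m ∈ J}))
  exact ⟨s, fun m hm => (hs hm).1, e⟩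

theorem mul_mem_of_mem_colon {J : Ideal (MvPolynomial (Fin (n + 1)) k)} {g m : MvPolynomial (Fin (n + 1)) k}
    (hm : m ∈ colonIdeal J g) : g * m ∈ J := by
  induction hm using Submodule.span_induction with
  | mem x hx => exact hx.2
  | zero => simp
  | add x y _ _ hx hy => rw [mul_add]; exact add_mem hx hy
  | smul c x _ hx => rw [smul_eq_mul, mul_left_comm]; exact J.mul_mem_left c hx

theorem le_colon {J : Ideal (MvPolynomial (Fin (n + 1)) k)} (hJ : HGen J) (g : MvPolynomial (Fin (n + 1)) k) :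
    J ≤ colonIdeal J g := by
  obtain ⟨s, hs, rfl⟩ := hJ
  exact Ideal.span_le.2 fun m hm => Ideal.subset_span ⟨hs m hm, Ideal.mul_mem_left _ _ (Ideal.subset_span hm)⟩

theorem triple_of_le {J J' : Ideal (MvPolynomial (Fin (n + 1)) k)} (h : J ≤ J') (d : ℤ) :
    Pair.Triple (dd (n := n) (k := k)) (fam (Asub n k d)) (fam (Jsub J d)) (fam (Jsub J' d)) where
  le₁ p _ hx := mem_fam.2 fun a => Jsub_le_of_le h d _ (mem_fam.1 hx a)
  le₂ p _ hx := mem_fam.2 fun a => (mem_fam.1 hx a).1
  dd := dd_dd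
  stabA := stable_fam (Asub_mono d)
  stabB := stable_fam (Jsub_mono d)
  stabB' := stable_fam (Jsub_mono d)

section mulg

variable {J : Ideal (MvPolynomial (Fin (n + 1)) k)} {g : MvPolynomial (Fin (n + 1)) k} {dg : ℕ}

theorem toL_mon (q : Fin (n + 1) →₀ ℕ) : toL n k (monomial q 1) = T (castE n q) := toL_monomial n k q 1

open Classical in
theorem exists_rep {d : ℤ} {S : Set (Fin (n + 1))} {z : L n k} (hz : z ∈ Asub n k d S) :
    ∃ q : Fin (n + 1) →₀ ℕ, (∀ j, j ∉ S → q j = 0) ∧ ∃ (i : ℕ) (m : MvPolynomial (Fin (n + 1)) k),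
      m.IsHomogeneous i ∧ toL n k m = z * T (castE n q) := by
  let q₀ : Fin (n + 1) →₀ ℕ := Finsupp.equivFunOnFinite.symm fun j => if j ∈ S then 1 else 0
  obtain ⟨N, hN⟩ := exists_polynomial_of_mem hz q₀ fun j hj => by simp [q₀, hj]
  obtain ⟨i, m, hm, e, -⟩ := hN N le_rfl
  exact ⟨N • q₀, fun j hj => by simp [q₀, hj], i, m, hm, e⟩

theorem isMap_mul (hg : g.IsHomogeneous dg) (d : ℤ) :
    Pair.IsMap (dd (n := n) (k := k)) (mulMap g) (fam (Asub n k (d - dg))) (fam (Jsub (colonIdeal J g) (d - dg)))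
      (fam (Jsub (J ⊔ Ideal.span {g}) d)) (fam (Jsub J d)) where
  comm := mulMap_comm g
  mapA p x hx := mem_fam.2 fun a => by
    have hA : toL n k g * x a ∈ Asub n k d (Set.range a) := by
      have := mul_mem_Asub (toL_mem_Asub hg (Set.range a)) (mem_fam.1 hx a)
      rwa [add_sub_cancel] at this
    obtain ⟨q, hq, i, m, -, e⟩ := exists_rep (mem_fam.1 hx a)
    exact ⟨hA, q, hq, g * m, Submodule.mem_sup_right (Ideal.mul_mem_right _ _ (Ideal.mem_span_singleton_self g)),
      by rw [map_mul, e, mulMap_apply, mul_assoc]⟩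
  mapB p x hx := mem_fam.2 fun a => by
    have hA : toL n k g * x a ∈ Asub n k d (Set.range a) := by
      have := mul_mem_Asub (toL_mem_Asub hg (Set.range a)) (mem_fam.1 hx a).1
      rwa [add_sub_cancel] at this
    obtain ⟨-, q, hq, m, hm, e⟩ := mem_fam.1 hx a
    exact ⟨hA, q, hq, g * m, mul_mem_of_mem_colon hm, by rw [map_mul, e, mulMap_apply, mul_assoc]⟩

theorem bijective_mul (hJ : HGen J) (hg : g.IsHomogeneous dg) (d : ℤ) (p : ℕ) :
    Function.Bijective (Pair.hmap (dd (n := n) (k := k)) (isMap_mul (J := J) hg d) p) := by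
  refine Pair.bijective_hmap _ (isMap_mul (J := J) hg d) (stable_fam (Asub_mono _)) (stable_fam (Jsub_mono d)) (fun p y hy => ?_)
    (fun p x hx hgx => mem_fam.2 fun a => ⟨mem_fam.1 hx a, ?_⟩) p
  · have H : ∀ a : Idx n p, ∃ x ∈ Asub n k (d - dg) (Set.range a), y a - toL n k g * x ∈ Jsub J d (Set.range a) := by
      intro a
      obtain ⟨hA, q, hq, m, hm, e⟩ := mem_fam.1 hy a
      obtain ⟨j, hj, b, hb, rfl⟩ := Submodule.mem_sup.1 hm
      obtain ⟨c, rfl⟩ := Ideal.mem_span_singleton'.1 hb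
      by_cases h0 : y a = 0
      · refine ⟨0, zero_mem _, ?_⟩
        rw [h0, mul_zero, sub_zero]
        exact zero_mem _
      have hh := isHomogeneous_of_toL hA e
      obtain ⟨c', hc', hc0, ec⟩ := exists_component_mul hg c ((q.degree : ℤ) + d).toNat
      have em : homogeneousComponent ((q.degree : ℤ) + d).toNat j + c' * g = j + c * g := by
        rw [← ec, ← map_add, homogeneousComponent_of_mem hh, if_pos rfl]
      have hnn : 0 ≤ (q.degree : ℤ) + d := by
        obtain ⟨p', hp'⟩ : ∃ e', (y a).coeff e' ≠ 0 := by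
          by_contra hc
          push Not at hc
          exact h0 (AddMonoidAlgebra.ext (Finsupp.ext fun e' => by simpa using hc e'))
        have h1 : (toL n k (j + c * g)).coeff (p' + castE n q) ≠ 0 := by
          rwa [e, T, AddMonoidAlgebra.coeff_mul_single_eq_coeff_mul p' (fun _ _ => add_left_inj _), mul_one]
        have h2 := (toL_mem_Asub hh (∅ : Set (Fin (n + 1))) _ h1).1
        rw [deg_add, deg_castE, (hA p' hp').1] at h2
        omega
      refine ⟨toL n k c' * T (-castE n q), ?_, ?_, q, hq, _, hJ.isHom j hj ((q.degree : ℤ) + d).toNat, ?_⟩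
      · by_cases hlt : ((q.degree : ℤ) + d).toNat < dg
        · rw [hc0 hlt, map_zero, zero_mul]
          exact zero_mem _
        · exact toL_mul_T_mem hc' q (by omega) hq
      · refine sub_mem hA ?_
        by_cases hlt : ((q.degree : ℤ) + d).toNat < dg
        · rw [hc0 hlt, map_zero, zero_mul, mul_zero]
          exact zero_mem _
        · have h3 : toL n k c' * T (-castE n q) ∈ Asub n k (d - dg) (Set.range a) :=
            toL_mul_T_mem hc' q (by omega) hq
          have := mul_mem_Asub (toL_mem_Asub hg (Set.range a)) h3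
          rwa [add_sub_cancel] at this
      · have e2 := congrArg (toL n k) em
        rw [e, map_add, map_mul] at e2
        rw [sub_mul, mul_assoc (toL n k g), mul_assoc (toL n k c'), T_mul, neg_add_cancel, T_zero, mul_one]
        linear_combination e2
    choose x hxA hxB using H
    exact ⟨fun a => x a, mem_fam.2 hxA, mem_fam.2 hxB⟩
  · obtain ⟨-, q, hq, m, hm, e⟩ := mem_fam.1 hgx a
    obtain ⟨q', hq', i, c, hc, ec⟩ := exists_rep (mem_fam.1 hx a)
    refine ⟨q' + q, fun j hj => by simp [hq j hj, hq' j hj], c * monomial q 1,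
      Ideal.subset_span ⟨⟨i + q.degree, hc.mul (isHomogeneous_monomial 1 rfl)⟩, ?_⟩, ?_⟩
    · have : g * (c * monomial q 1) = m * monomial q' 1 := by
        refine toL_injective n k ?_
        rw [map_mul, map_mul, map_mul, toL_mon, toL_mon, e, ec, mulMap_apply]
        ring
      rw [this]
      exact Ideal.mul_mem_right _ _ hm
    · rw [map_mul, toL_mon, ec, mul_assoc, T_mul, map_add]

/-- Multiplication by `g` on cohomology. -/
def mulEquiv (hJ : HGen J) (hg : g.IsHomogeneous dg) (d : ℤ) (p : ℕ) :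
    Hc (colonIdeal J g) (d - dg) p ≃ₗ[k]
      Pair.H (dd (n := n) (k := k)) (fam (Jsub (J ⊔ Ideal.span {g}) d)) (fam (Jsub J d)) p :=
  LinearEquiv.ofBijective _ (bijective_mul hJ hg d p)

end mulg

theorem finite_Hc : ∀ (p : ℕ) {J : Ideal (MvPolynomial (Fin (n + 1)) k)}, HGen J → ∀ {d : ℤ}, d ≤ 0 →
    Module.Finite k (Hc J d p) := by
  suffices H : ∀ r p, n + 1 ≤ p + r → ∀ {J : Ideal (MvPolynomial (Fin (n + 1)) k)}, HGen J → ∀ {d : ℤ}, d ≤ 0 →
      Module.Finite k (Hc J d p) from fun p _ hJ _ hd => H (n + 1) p (by omega) hJ hd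
  intro r
  induction r with
  | zero =>
    intro p hp J _ d _
    haveI := subsingleton_fam (Asub_mono (n := n) (k := k) d) (Jsub_mono (J := J) d) (show n < p by omega)
    infer_instance
  | succ r ih =>
    intro p hp J hJ
    refine HGen.induction (P := fun J => ∀ {d : ℤ}, d ≤ 0 → Module.Finite k (Hc J d p))
      (fun {d} hd => finite_Hc_bot hd p) ?_ hJ
    intro J g hJ hg hind d hd
    · obtain ⟨dg, hg⟩ := hg
      haveI := hind (d := d) hd
      haveI := ih (p + 1) (by omega) (colon_hGen J g) (d := d - dg) (by omega)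
      haveI : Module.Finite k (Pair.H (dd (n := n) (k := k)) (fam (Jsub (J ⊔ Ideal.span {g}) d))
          (fam (Jsub J d)) (p + 1)) := Module.Finite.equiv (mulEquiv hJ hg d (p + 1))
      exact finite_of_exact _ _ (Pair.exact_prj_conn _ (triple_of_le le_sup_left d) p)

theorem finite_pair {J J' : Ideal (MvPolynomial (Fin (n + 1)) k)} (hJ : HGen J) (hJ' : HGen J') (h : J ≤ J')
    {d : ℤ} (hd : d ≤ 0) : ∀ p, Module.Finite k (Pair.H (dd (n := n) (k := k)) (fam (Jsub J' d)) (fam (Jsub J d)) p)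
  | 0 => by
    haveI := finite_Hc 0 hJ hd
    exact Module.Finite.of_injective _ (Pair.inc_zero_injective _ (triple_of_le h d))
  | p + 1 => by
    haveI := finite_Hc p hJ' hd
    haveI := finite_Hc (p + 1) hJ hd
    exact finite_of_exact _ _ (Pair.exact_conn_inc _ (triple_of_le h d) p)

section traces

variable [Fintype k]

open Classical in
/-- The trace of `h a ^ q` on the cohomology of a pair. -/
def trH (h : MvPolynomial (Fin (n + 1)) k) (A B : ∀ p, Submodule k (V n k p)) (p : ℕ) : k :=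
  if hF : Pair.IsMap (dd (n := n) (k := k)) (frob h) A B A B then
    LinearMap.trace k _ (Pair.hmap (dd (n := n) (k := k)) hF p)
  else 0

theorem trH_eq {h : MvPolynomial (Fin (n + 1)) k} {A B : ∀ p, Submodule k (V n k p)}
    (hF : Pair.IsMap (dd (n := n) (k := k)) (frob h) A B A B) (p : ℕ) :
    trH h A B p = LinearMap.trace k _ (Pair.hmap (dd (n := n) (k := k)) hF p) := dif_pos hF

/-- The alternating trace of a pair. -/
def chiP (h : MvPolynomial (Fin (n + 1)) k) (A B : ∀ p, Submodule k (V n k p)) : k :=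
  ∑ p ∈ Finset.range (n + 1), (-1 : k) ^ p * trH h A B p

/-- The alternating trace of `J` in degree `-e`. -/
def chi (J : Ideal (MvPolynomial (Fin (n + 1)) k)) (d : ℤ) (h : MvPolynomial (Fin (n + 1)) k) : k :=
  chiP h (fam (Asub n k d)) (fam (Jsub J d))

theorem deg_eq (e : ℕ) :
    ((e * (Fintype.card k - 1) : ℕ) : ℤ) + (Fintype.card k : ℤ) * -(e : ℤ) = -(e : ℤ) := by
  rw [Nat.cast_mul, Nat.cast_sub Fintype.card_pos]
  ring

theorem isMap_frob {J J' : Ideal (MvPolynomial (Fin (n + 1)) k)} {e : ℕ} {h : MvPolynomial (Fin (n + 1)) k}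
    (hh : h.IsHomogeneous (e * (Fintype.card k - 1))) (hJ : ∀ m ∈ J, h * m ^ Fintype.card k ∈ J') :
    Pair.IsMap (dd (n := n) (k := k)) (frob h) (fam (Asub n k (-(e : ℤ)))) (fam (Jsub J (-(e : ℤ))))
      (fam (Asub n k (-(e : ℤ)))) (fam (Jsub J' (-(e : ℤ)))) :=
  ⟨frob_comm h, fun p _ hx => frob_mem_A hh (deg_eq e) p hx, fun p _ hx => frob_mem_J hh (deg_eq e) hJ p hx⟩

theorem mul_pow_card_mem {J : Ideal (MvPolynomial (Fin (n + 1)) k)} (h : MvPolynomial (Fin (n + 1)) k) :
    ∀ m ∈ J, h * m ^ Fintype.card k ∈ J := fun _ hm =>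
  J.mul_mem_left _ (Ideal.pow_mem_of_mem J hm _ Fintype.card_pos)

theorem chiP_add {J J' : Ideal (MvPolynomial (Fin (n + 1)) k)} (hJ : HGen J) (hJ' : HGen J') (hle : J ≤ J')
    {e : ℕ} {h : MvPolynomial (Fin (n + 1)) k} (hh : h.IsHomogeneous (e * (Fintype.card k - 1))) :
    chi J (-(e : ℤ)) h = chiP h (fam (Jsub J' (-(e : ℤ)))) (fam (Jsub J (-(e : ℤ)))) + chi J' (-(e : ℤ)) h := by
  have h2 := isMap_frob (J := J) hh (mul_pow_card_mem h)
  have h3 := isMap_frob (J := J') hh (mul_pow_card_mem h)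
  have h1 : Pair.IsMap (dd (n := n) (k := k)) (frob h) (fam (Jsub J' (-(e : ℤ)))) (fam (Jsub J (-(e : ℤ))))
      (fam (Jsub J' (-(e : ℤ)))) (fam (Jsub J (-(e : ℤ)))) := ⟨h2.comm, h3.mapB, h2.mapB⟩
  have hd : -(e : ℤ) ≤ 0 := by omega
  haveI := finite_pair hJ hJ' hle hd
  haveI := fun p => finite_Hc p hJ hd
  haveI := fun p => finite_Hc p hJ' hd
  haveI := subsingleton_fam (Jsub_mono (J := J') (-(e : ℤ))) (Jsub_mono (J := J) (-(e : ℤ))) (Nat.lt_succ_self n)
  simp only [chi, chiP, trH_eq h1, trH_eq h2, trH_eq h3]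
  let TT := triple_of_le hle (-(e : ℤ))
  exact alt_trace (fun p => Pair.inc _ TT p) (fun p => Pair.prj _ TT p) (fun p => Pair.conn _ TT p)
    (fun p => Pair.hmap _ h1 p) (fun p => Pair.hmap _ h2 p) (fun p => Pair.hmap _ h3 p)
    (Pair.inc_comm _ TT h1 h2) (Pair.prj_comm _ TT h2 h3) (Pair.conn_comm _ TT h1 h3)
    (Pair.inc_zero_injective _ TT) (Pair.exact_inc_prj _ TT) (Pair.exact_prj_conn _ TT)
    (Pair.exact_conn_inc _ TT) (n + 1)

variable {J : Ideal (MvPolynomial (Fin (n + 1)) k)} {g : MvPolynomial (Fin (n + 1)) k} {dg e : ℕ}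
  {h : MvPolynomial (Fin (n + 1)) k}

theorem isHomogeneous_twist (hg : g.IsHomogeneous dg) (hh : h.IsHomogeneous (e * (Fintype.card k - 1))) :
    (g ^ (Fintype.card k - 1) * h).IsHomogeneous ((e + dg) * (Fintype.card k - 1)) := by
  have := (hg.pow (Fintype.card k - 1)).mul hh
  rwa [← add_mul, Nat.add_comm dg e] at this

theorem chiP_mul (hJ : HGen J) (hg : g.IsHomogeneous dg) (hh : h.IsHomogeneous (e * (Fintype.card k - 1))) :
    chiP h (fam (Jsub (J ⊔ Ideal.span {g}) (-(e : ℤ)))) (fam (Jsub J (-(e : ℤ)))) =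
      chi (colonIdeal J g) (-(e : ℤ) - dg) (g ^ (Fintype.card k - 1) * h) := by
  have hh' := isHomogeneous_twist hg hh
  have hK : Pair.IsMap (dd (n := n) (k := k)) (frob (g ^ (Fintype.card k - 1) * h))
      (fam (Asub n k (-(e : ℤ) - dg))) (fam (Jsub (colonIdeal J g) (-(e : ℤ) - dg)))
      (fam (Asub n k (-(e : ℤ) - dg))) (fam (Jsub (colonIdeal J g) (-(e : ℤ) - dg))) := by
    rw [show -(e : ℤ) - dg = -((e + dg : ℕ) : ℤ) by push_cast; ring]
    exact isMap_frob hh' (mul_pow_card_mem _)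
  have h1 : Pair.IsMap (dd (n := n) (k := k)) (frob h) (fam (Jsub (J ⊔ Ideal.span {g}) (-(e : ℤ))))
      (fam (Jsub J (-(e : ℤ)))) (fam (Jsub (J ⊔ Ideal.span {g}) (-(e : ℤ)))) (fam (Jsub J (-(e : ℤ)))) :=
    ⟨frob_comm h, (isMap_frob hh (mul_pow_card_mem h)).mapB, (isMap_frob hh (mul_pow_card_mem h)).mapB⟩
  have hd : -(e : ℤ) - dg ≤ 0 := by omega
  simp only [chi, chiP, trH_eq h1, trH_eq hK]
  refine Finset.sum_congr rfl fun p _ => ?_
  congr 1
  haveI := finite_Hc p (colon_hGen J g) hd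
  rw [← LinearMap.trace_conj' (Pair.hmap (dd (n := n) (k := k)) hK p) (mulEquiv hJ hg (-(e : ℤ)) p)]
  congr 1
  refine LinearMap.ext fun y => ?_
  obtain ⟨x, rfl⟩ := (mulEquiv hJ hg (-(e : ℤ)) p).surjective y
  obtain ⟨z, rfl⟩ := Pair.cls_surjective _ x
  rw [LinearEquiv.conj_apply_apply, LinearEquiv.symm_apply_apply]
  exact congrArg (Pair.cls _) (Subtype.ext (frob_mul h g p z.1))

theorem chiP_eq_zero (hJ : HGen J) (hg : g.IsHomogeneous dg) (hh : h.IsHomogeneous (e * (Fintype.card k - 1))) :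
    chiP (g ^ (Fintype.card k - 1) * h) (fam (Jsub (colonIdeal J g) (-((e + dg : ℕ) : ℤ))))
      (fam (Jsub J (-((e + dg : ℕ) : ℤ)))) = 0 := by
  have hh' := isHomogeneous_twist hg hh
  have hKJ : ∀ m ∈ colonIdeal J g, g ^ (Fintype.card k - 1) * h * m ^ Fintype.card k ∈ J := fun m hm => by
    have h2 := two_le_card (k := k)
    have e1 : g ^ (Fintype.card k - 1) * h * m ^ Fintype.card k =
        h * (g * m) ^ (Fintype.card k - 1) * m := by
      conv_lhs => rw [← Nat.sub_add_cancel (show 1 ≤ Fintype.card k by omega)]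
      rw [pow_succ, Nat.add_sub_cancel, mul_pow]
      ring
    rw [e1]
    exact J.mul_mem_right _ (J.mul_mem_left _ (Ideal.pow_mem_of_mem J (mul_mem_of_mem_colon hm) _ (by omega)))
  have h1 : Pair.IsMap (dd (n := n) (k := k)) (frob (g ^ (Fintype.card k - 1) * h))
      (fam (Jsub (colonIdeal J g) (-((e + dg : ℕ) : ℤ)))) (fam (Jsub J (-((e + dg : ℕ) : ℤ))))
      (fam (Jsub (colonIdeal J g) (-((e + dg : ℕ) : ℤ)))) (fam (Jsub J (-((e + dg : ℕ) : ℤ)))) :=
    ⟨frob_comm _, (isMap_frob hh' (mul_pow_card_mem _)).mapB, (isMap_frob hh' (mul_pow_card_mem _)).mapB⟩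
  refine Finset.sum_eq_zero fun p _ => ?_
  rw [trH_eq h1, show Pair.hmap (dd (n := n) (k := k)) h1 p = 0 from Pair.hom_ext _ fun z => ?_, map_zero, mul_zero]
  exact (Pair.cls_eq_zero _).2 (Pair.le_Bd _ _ _ p ((isMap_frob hh' hKJ).mapB p z.1 z.2.1))

theorem chi_bot (hh : h.IsHomogeneous (e * (Fintype.card k - 1))) :
    chi ⊥ (-(e : ℤ)) h = -coneSum ⊥ h := by
  have hd : -(e : ℤ) ≤ 0 := by omega
  have hF := isMap_frob (J := (⊥ : Ideal (MvPolynomial (Fin (n + 1)) k))) hh (mul_pow_card_mem h)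
  rw [← base_formula hh]
  simp only [chi, chiP, trH_eq hF]
  rw [Finset.sum_range_succ' _ n, pow_zero, one_mul, add_comm, trace_coord (coord_zero hd) hF
    fun x hx hdx γ hγ hG => absurd ((mem_G0 hd).2 fun i => ?_) hG]
  · congr 1
    rcases n with _ | m
    · simp
    · have hmid : ∀ p ∈ Finset.range m, (-1 : k) ^ (p + 1) *
          LinearMap.trace k _ (Pair.hmap (dd (n := m + 1) (k := k)) hF (p + 1)) = 0 := fun p hp => by
        haveI := subsingleton_Hc_bot (k := k) (d := -(e : ℤ)) (n := m + 1)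
          (p := p) (by have := Finset.mem_range.1 hp; omega)
        rw [Subsingleton.elim (Pair.hmap (dd (n := m + 1) (k := k)) hF (p + 1)) 0, map_zero, mul_zero]
      rw [if_neg (Nat.succ_ne_zero m), Finset.sum_range_succ, Finset.sum_eq_zero hmid, zero_add,
        trace_coord (coord_top rfl) hF fun x hx _ γ hγ hG β hβ => ?_]
      have hγ' := mem_fam.1 hx _ γ hγ
      have hn' : ¬ AllNeg γ := fun hn => hG (mem_Gn.2 ⟨hn, hγ'.1⟩)
      simp only [AllNeg, not_forall, not_lt] at hn'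
      obtain ⟨i, hi⟩ := hn'
      by_contra hne
      have h1 := (toL_mem_Asub hh (∅ : Set (Fin (m + 1 + 1))) _ hne).2 i (Set.notMem_empty i)
      rw [Finsupp.sub_apply, Finsupp.smul_apply, nsmul_eq_mul] at h1
      have h2 : β i < 0 := (mem_Gn.1 hβ).1 i
      have h3 : (0 : ℤ) ≤ (Fintype.card k : ℤ) * γ i := mul_nonneg (Int.natCast_nonneg _) hi
      linarith
  · have h1 := mem_fam.1 hx (fun _ => i) γ (by rwa [const_of_dd_zero hdx (fun _ => i) fun _ => 0])
    rwa [Set.range_const] at h1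

theorem chi_eq {J : Ideal (MvPolynomial (Fin (n + 1)) k)} (hJ : HGen J) :
    ∀ {e : ℕ} {h : MvPolynomial (Fin (n + 1)) k}, h.IsHomogeneous (e * (Fintype.card k - 1)) →
      chi J (-(e : ℤ)) h = -coneSum J h := by
  refine HGen.induction (P := fun J => ∀ {e : ℕ} {h : MvPolynomial (Fin (n + 1)) k},
    h.IsHomogeneous (e * (Fintype.card k - 1)) → chi J (-(e : ℤ)) h = -coneSum J h) (fun hh => chi_bot hh) ?_ hJ
  intro J g hJ hg ih e h hh
  · obtain ⟨dg, hg⟩ := hg
    obtain ⟨s, hs, rfl⟩ := hJ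
    classical
    have hJ : HGen (Ideal.span (s : Set (MvPolynomial (Fin (n + 1)) k))) := ⟨s, hs, rfl⟩
    have hJg : HGen (Ideal.span (s : Set (MvPolynomial (Fin (n + 1)) k)) ⊔ Ideal.span {g}) := by
      refine ⟨insert g s, fun a ha => ?_, ?_⟩
      · rcases Finset.mem_insert.1 ha with rfl | h'
        · exact ⟨dg, hg⟩
        · exact hs a h'
      · rw [Finset.coe_insert, Ideal.span_insert, sup_comm]
    have hh' := isHomogeneous_twist hg hh
    have e1 := chiP_add hJ hJg le_sup_left hh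
    have e2 := chiP_add hJ (colon_hGen _ g) (le_colon hJ g) hh'
    rw [chiP_eq_zero hJ hg hh, zero_add] at e2
    rw [chiP_mul hJ hg hh, show -(e : ℤ) - dg = -((e + dg : ℕ) : ℤ) by push_cast; ring, ← e2, ih hh, ih hh'] at e1
    rw [coneSum_sup_span]
    linear_combination -e1

end traces

end

end Groth.Agent.H27FulTrace
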