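import Groth.Agent.H27FulTrace.Sec
import Groth.Agent.H27Zeta.ProjPoints
import Groth.Agent.H11QMap.TwistAbs

/-!
# Rational points of a closed subscheme of projective space and the cone
-/

set_option autoImplicit false
set_option linter.style.haveILetI false
set_option backward.isDefEq.respectTransparency false

universe u

open CategoryTheory AlgebraicGeometry MvPolynomial TopologicalSpace Opposite

namespace Groth.Agent.H27FulTrace.Link

noncomputable section

variable {n : ℕ} {k : Type u} [Field k]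

/-- Indices of normalised coordinate vectors. -/
abbrev NIdx (n : ℕ) (k : Type u) : Type u := Σ b : Fin (n + 1), {j : Fin (n + 1) // b < j} → k

/-- The normalised coordinate vector. -/
def nvec (t : NIdx n k) : Fin (n + 1) → k := H27Zeta.coord t.1 (H27Zeta.extZero t.1 t.2)

theorem nvec_self (t : NIdx n k) : nvec t t.1 = 1 := by simp [nvec, H27Zeta.coord]

theorem nvec_lt (t : NIdx n k) {j : Fin (n + 1)} (hj : j < t.1) : nvec t j = 0 := by
  simp [nvec, H27Zeta.coord, H27Zeta.extZero, hj.ne, hj.not_gt]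

theorem chartPoint_bijective :
    Function.Bijective (fun t : NIdx n k => (⟨H27Zeta.chartPoint (k := k) t.1 (H27Zeta.extZero t.1 t.2),
      H27Zeta.chartPoint_over _ _⟩ : {g : Spec (CommRingCat.of k) ⟶ CohB1.ProjSpace n k //
        g ≫ CohB1.ProjSpace.toSpec n k = Spec.map (CommRingCat.ofHom (algebraMap k k))})) := by
  let pt : ↥(Spec (CommRingCat.of k)) := IsLocalRing.closedPoint k
  refine ⟨?_, ?_⟩
  · rintro ⟨b, w⟩ ⟨b', w'⟩ h
    have h' : H27Zeta.chartPoint (k := k) b (H27Zeta.extZero b w) = H27Zeta.chartPoint b' (H27Zeta.extZero b' w') :=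
      congrArg Subtype.val h
    have hle : b' ≤ b := by
      by_contra hlt
      exact (H27Zeta.chartPoint_mem_iff b' b (H27Zeta.extZero b' w') pt).mp
        (h' ▸ (H27Zeta.chartPoint_mem_iff b b (H27Zeta.extZero b w) pt).mpr
          (by simp [H27Zeta.coord])) (nvec_lt ⟨b', w'⟩ (not_le.mp hlt))
    have hge : b ≤ b' := by
      by_contra hlt
      exact (H27Zeta.chartPoint_mem_iff b b' (H27Zeta.extZero b w) pt).mp
        (h'.symm ▸ (H27Zeta.chartPoint_mem_iff b' b' (H27Zeta.extZero b' w') pt).mpr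
          (by simp [H27Zeta.coord])) (nvec_lt ⟨b, w⟩ (not_le.mp hlt))
    obtain rfl := le_antisymm hge hle
    congr 1
    funext l
    have := congrFun (H27Zeta.chartPoint_injective b h') ⟨l.1, l.2.ne'⟩
    simpa [H27Zeta.extZero, l.2] using this
  · rintro ⟨g, hg⟩
    classical
    have hne : (Finset.univ.filter fun b : Fin (n + 1) =>
        g pt ∈ Proj.basicOpen (CohB1.polyGrading n k) (MvPolynomial.X b)).Nonempty := by
      obtain ⟨b, hb⟩ := TopologicalSpace.Opens.mem_iSup.mp
        ((H11Proj.ProjSpace.iSup_basicOpen n k).ge (Set.mem_univ (g pt)))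
      exact ⟨b, Finset.mem_filter.mpr ⟨Finset.mem_univ _, hb⟩⟩
    obtain ⟨b, hb, hmin⟩ : ∃ b, g pt ∈ Proj.basicOpen (CohB1.polyGrading n k) (MvPolynomial.X b) ∧
        ∀ j, g pt ∈ Proj.basicOpen (CohB1.polyGrading n k) (MvPolynomial.X j) → b ≤ j :=
      ⟨_, (Finset.mem_filter.mp (Finset.min'_mem _ hne)).2, fun j hj =>
        Finset.min'_le _ j (Finset.mem_filter.mpr ⟨Finset.mem_univ _, hj⟩)⟩
    obtain ⟨v, rfl⟩ := H27Zeta.exists_chartPoint b g hg pt hb
    have hz : ∀ j : {j : Fin (n + 1) // j ≠ b}, j.1 < b → v j = 0 := fun j hj => by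
      by_contra hvj
      refine absurd (hmin j.1 ((H27Zeta.chartPoint_mem_iff b j.1 v pt).mpr ?_)) (not_le.mpr hj)
      simpa [H27Zeta.coord, j.2] using hvj
    refine ⟨⟨b, fun l => v ⟨l.1, l.2.ne'⟩⟩, Subtype.ext (congrArg (H27Zeta.chartPoint b) (funext fun j => ?_))⟩
    unfold H27Zeta.extZero
    split_ifs with h
    · rfl
    · exact (hz j (lt_of_le_of_ne (not_lt.mp h) j.2)).symm

variable {X : Scheme.{u}} {i : X ⟶ Proj (CohB1.polyGrading n k)}

theorem dehom_eq_eval (b : Fin (n + 1)) (v : {j : Fin (n + 1) // j ≠ b} → k) (m : MvPolynomial (Fin (n + 1)) k) :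
    MvPolynomial.eval₂Hom (algebraMap k k) v (H11Proj.ProjSpace.dehom n k b m) = eval (H27Zeta.coord b v) m := by
  have h : (MvPolynomial.eval₂Hom (algebraMap k k) v).comp (H11Proj.ProjSpace.dehom n k b) =
      eval (H27Zeta.coord b v) := by
    refine MvPolynomial.ringHom_ext (fun r => by simp [H11Proj.ProjSpace.dehom]) fun j => ?_
    by_cases h : j = b <;> simp [H11Proj.ProjSpace.dehom, H27Zeta.coord, h]
  exact RingHom.congr_fun h m

theorem chartPoint_appLE (b : Fin (n + 1)) (v : {j : Fin (n + 1) // j ≠ b} → k)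
    (hle : (⊤ : (Spec (CommRingCat.of k)).Opens) ≤
      (H27Zeta.chartPoint (k := k) b v) ⁻¹ᵁ Proj.basicOpen (CohB1.polyGrading n k) (MvPolynomial.X b))
    {l : ℕ} {m : MvPolynomial (Fin (n + 1)) k} (hm : m ∈ CohB1.polyGrading n k l) :
    (Scheme.ΓSpecIso (CommRingCat.of k)).hom ((H27Zeta.chartPoint (k := k) b v).appLE _ ⊤ hle
      (H11Tilde.ratio (CohB1.polyGrading n k) (H11Proj.ProjSpace.X_mem n k b) hm)) =
      eval (H27Zeta.coord b v) m := by
  let θ : CommRingCat.of (HomogeneousLocalization.Away (CohB1.polyGrading n k) (MvPolynomial.X b)) ⟶ CommRingCat.of k :=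
    CommRingCat.ofHom ((MvPolynomial.eval₂Hom (algebraMap k k) v).comp (H11Proj.ProjSpace.chartInv n k b))
  let U := Proj.basicOpen (CohB1.polyGrading n k) (MvPolynomial.X b)
  have hw : (⊤ : (Spec (CommRingCat.of (HomogeneousLocalization.Away (CohB1.polyGrading n k) (MvPolynomial.X b)))).Opens) ≤
      (Proj.awayι (CohB1.polyGrading n k) (MvPolynomial.X b) (H11Proj.ProjSpace.X_mem n k b) Nat.one_pos) ⁻¹ᵁ U :=
    fun x _ => (Proj.opensRange_awayι (CohB1.polyGrading n k) _ (H11Proj.ProjSpace.X_mem n k b) Nat.one_pos).le ⟨x, rfl⟩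
  have e := congr($(Scheme.Hom.appLE_comp_appLE (Spec.map θ)
    (Proj.awayι (CohB1.polyGrading n k) (MvPolynomial.X b) (H11Proj.ProjSpace.X_mem n k b) Nat.one_pos) U ⊤ ⊤ hw
    (fun _ _ => trivial)) (H11Tilde.ratio (CohB1.polyGrading n k) (H11Proj.ProjSpace.X_mem n k b) hm))
  rw [CommRingCat.comp_apply] at e
  change (Scheme.ΓSpecIso (CommRingCat.of k)).hom ((Spec.map θ ≫ Proj.awayι (CohB1.polyGrading n k) (MvPolynomial.X b)
    (H11Proj.ProjSpace.X_mem n k b) Nat.one_pos).appLE U ⊤ hle _) = _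
  rw [← e, H11Tilde.ratio, H11QMap.appLE_awayι_abs (CohB1.polyGrading n k) Nat.one_pos
    (H11Proj.ProjSpace.X_mem n k b) hw]
  erw [Scheme.Hom.appLE_eq_app]
  have h2 := congr($(Scheme.ΓSpecIso_inv_naturality θ) (HomogeneousLocalization.Away.mk (CohB1.polyGrading n k)
    (H11Proj.ProjSpace.X_mem n k b) l m (by simpa using hm)))
  rw [CommRingCat.comp_apply, CommRingCat.comp_apply] at h2
  change (Scheme.ΓSpecIso (CommRingCat.of k)).hom ((Spec.map θ).appTop _) = _
  rw [← h2, ← CommRingCat.comp_apply, Iso.inv_hom_id]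
  change MvPolynomial.eval₂Hom (algebraMap k k) v (H11Proj.ProjSpace.chartInv n k b _) = _
  rw [H11Proj.ProjSpace.chartInv_mk, dehom_eq_eval]

variable [IsClosedImmersion i]

theorem chartPoint_factors_iff (t : NIdx n k) :
    (∃ g : Spec (CommRingCat.of k) ⟶ X, g ≫ i = H27Zeta.chartPoint (k := k) t.1 (H27Zeta.extZero t.1 t.2)) ↔
      ∀ m ∈ idl i, eval (nvec t) m = 0 := by
  let b : Ix.{u} n := ⟨t.1⟩
  let U := Proj.basicOpen (CohB1.polyGrading n k) (xv (k := k) b)
  let g₀ : Spec (CommRingCat.of k) ⟶ Proj (CohB1.polyGrading n k) :=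
    H27Zeta.chartPoint (k := k) t.1 (H27Zeta.extZero t.1 t.2)
  have hle : (⊤ : (Spec (CommRingCat.of k)).Opens) ≤ g₀ ⁻¹ᵁ U := fun z _ =>
    (H27Zeta.chartPoint_mem_iff t.1 t.1 _ z).2 (by simp [H27Zeta.coord])
  have hU : IsAffineOpen U := Proj.isAffineOpen_basicOpen _ _ (xv_mem (k := k) b) Nat.one_pos
  constructor
  · rintro ⟨g, hg⟩ m hm
    have hge : g ≫ i = g₀ := hg
    classical
    rw [← DirectSum.sum_support_decompose (CohB1.polyGrading n k) m, map_sum]
    refine Finset.sum_eq_zero fun l _ => ?_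
    let ml := DirectSum.decompose (CohB1.polyGrading n k) m l
    have h1 : i.app U (H11Tilde.ratio (CohB1.polyGrading n k) (xv_mem (k := k) b) ml.2) = 0 :=
      (H11Proj.app_ratio_eq_zero_iff (CohB1.polyGrading n k) (xv (n := n) (k := k)) xv_mem i b ml.2).2
        ⟨0, by rw [pow_zero, one_mul]; exact H11Proj.idealOf_isHomogeneous _ _ _ i l hm⟩
    rw [show eval (nvec t) (ml : MvPolynomial (Fin (n + 1)) k) = _ from (chartPoint_appLE t.1 _ hle ml.2).symm]
    have h2 : g₀.appLE U ⊤ hle (H11Tilde.ratio (CohB1.polyGrading n k) (xv_mem (k := k) b) ml.2) = 0 := by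
      simp only [← hge] at hle ⊢
      rw [← Scheme.Hom.appLE_comp_appLE g i U (i ⁻¹ᵁ U) ⊤ le_rfl hle, CommRingCat.comp_apply,
        Scheme.Hom.appLE_eq_app, h1, map_zero]
    exact (congrArg (Scheme.ΓSpecIso (CommRingCat.of k)).hom h2).trans (map_zero _)
  · intro h
    have hsurj : Function.Surjective (i.app U) := i.app_surjective U hU
    have hker : RingHom.ker (i.app U).hom ≤ RingHom.ker (g₀.appLE U ⊤ hle).hom := by
      intro r hr
      obtain ⟨l, m, hm, rfl⟩ := H11Proj.exists_eq_ratio (CohB1.polyGrading n k) (xv_mem (k := k) b) r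
      obtain ⟨N, hN⟩ := (H11Proj.app_ratio_eq_zero_iff (CohB1.polyGrading n k) (xv (n := n) (k := k)) xv_mem i b
        hm).1 (RingHom.mem_ker.1 hr)
      have h3 := h _ hN
      rw [map_mul, map_pow, eval_X, nvec_self, one_pow, one_mul] at h3
      have h4 := chartPoint_appLE t.1 _ hle hm
      rw [show eval (H27Zeta.coord t.1 (H27Zeta.extZero t.1 t.2)) m = 0 from h3] at h4
      refine RingHom.mem_ker.2 ?_
      exact ((Scheme.ΓSpecIso (CommRingCat.of k)).commRingCatIsoToRingEquiv.injective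
        (h4.trans (map_zero _).symm))
    let χ : Γ(X, i ⁻¹ᵁ U) ⟶ Γ(Spec (CommRingCat.of k), ⊤) :=
      CommRingCat.ofHom (RingHom.liftOfSurjective (i.app U).hom hsurj ⟨(g₀.appLE U ⊤ hle).hom, hker⟩)
    have hχ : i.app U ≫ χ = g₀.appLE U ⊤ hle :=
      CommRingCat.hom_ext (RingHom.liftOfSurjective_comp (i.app U).hom hsurj ⟨(g₀.appLE U ⊤ hle).hom, hker⟩)
    refine ⟨(Spec (CommRingCat.of k)).isoSpec.hom ≫ Spec.map χ ≫ (hU.preimage i).fromSpec, ?_⟩
    show _ = g₀
    rw [Category.assoc, Category.assoc, ← IsAffineOpen.SpecMap_appLE_fromSpec i hU (hU.preimage i) le_rfl,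
      ← Spec.map_comp_assoc, Scheme.Hom.appLE_eq_app, hχ,
      IsAffineOpen.SpecMap_appLE_fromSpec g₀ hU (isAffineOpen_top _) hle, IsAffineOpen.fromSpec_top,
      Iso.hom_inv_id_assoc]

variable (i) in
/-- The rational points of `X` are the normalised vectors killing the ideal. -/
theorem pointCount_eq [X.Over (Spec (CommRingCat.of k))]
    (hi : i ≫ CohB1.ProjSpace.toSpec n k = X ↘ Spec (CommRingCat.of k)) :
    SgaExt.pointCount (X ↘ Spec (CommRingCat.of k)) k =
      Nat.card {t : NIdx n k // ∀ m ∈ idl i, eval (nvec t) m = 0} := by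
  haveI : Mono i := inferInstance
  have hover : ∀ t : {t : NIdx n k // ∀ m ∈ idl i, eval (nvec t) m = 0},
      ((chartPoint_factors_iff t.1).2 t.2).choose ≫ (X ↘ Spec (CommRingCat.of k)) =
        Spec.map (CommRingCat.ofHom (algebraMap k k)) := fun t =>
    (congrArg (_ ≫ ·) hi.symm).trans ((Category.assoc _ _ _).symm.trans
      ((congrArg (· ≫ CohB1.ProjSpace.toSpec n k) ((chartPoint_factors_iff t.1).2 t.2).choose_spec).trans
        (H27Zeta.chartPoint_over _ _)))
  refine (Nat.card_eq_of_bijective (fun t => ⟨((chartPoint_factors_iff t.1).2 t.2).choose, hover t⟩) ⟨?_, ?_⟩).symm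
  · intro t t' e
    refine Subtype.ext (chartPoint_bijective.1 (Subtype.ext ?_))
    show H27Zeta.chartPoint (k := k) t.1.1 _ = H27Zeta.chartPoint (k := k) t'.1.1 _
    rw [← ((chartPoint_factors_iff t.1).2 t.2).choose_spec, ← ((chartPoint_factors_iff t'.1).2 t'.2).choose_spec]
    exact congrArg (· ≫ i) (congrArg Subtype.val e)
  · rintro ⟨g, hg⟩
    obtain ⟨t, ht⟩ := chartPoint_bijective.2 ⟨g ≫ i,
      (Category.assoc _ _ _).trans ((congrArg (g ≫ ·) hi).trans hg)⟩
    have ht' : H27Zeta.chartPoint (k := k) t.1 (H27Zeta.extZero t.1 t.2) = g ≫ i := congrArg Subtype.val ht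
    have htc : ∀ m ∈ idl i, eval (nvec t) m = 0 := (chartPoint_factors_iff t).1 ⟨g, ht'.symm⟩
    refine ⟨⟨t, htc⟩, Subtype.ext ((cancel_mono i).1 ?_)⟩
    exact ((chartPoint_factors_iff t).2 htc).choose_spec.trans ht'

variable (i) in
/-- The cone is the punctured line over the rational points. -/
theorem card_cone [Fintype k] :
    (cone (idl i)).card = Nat.card kˣ * Nat.card {t : NIdx n k // ∀ m ∈ idl i, eval (nvec t) m = 0} := by
  classical
  have hscal : ∀ (u : kˣ) (t : NIdx n k), (∀ m ∈ idl i, eval (fun j => (u : k) * nvec t j) m = 0) ↔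
      ∀ m ∈ idl i, eval (nvec t) m = 0 := by
    have key : ∀ (c : k) (v : Fin (n + 1) → k), (∀ m ∈ idl i, eval v m = 0) →
        ∀ m ∈ idl i, eval (fun j => c * v j) m = 0 := fun c v h m hm => by
      rw [← sum_homogeneousComponent m, map_sum]
      refine Finset.sum_eq_zero fun l _ => ?_
      have h1 := h _ ((idl_hGen (i := i)).isHom m hm l)
      have h2 : eval (fun j => c * v j) (homogeneousComponent l m) = c ^ l * eval v (homogeneousComponent l m) := by
        rw [eval_eq', eval_eq', Finset.mul_sum]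
        refine Finset.sum_congr rfl fun d hd => ?_
        have hd' := homogeneousComponent_isHomogeneous l m (mem_support_iff.1 hd)
        rw [show Finsupp.weight (1 : Fin (n + 1) → ℕ) d = d.degree by rw [Finsupp.degree_eq_weight_one]; rfl] at hd'
        rw [Finset.prod_congr rfl fun j _ => mul_pow c (v j) (d j), Finset.prod_mul_distrib,
          Finset.prod_pow_eq_pow_sum, show ∑ j, d j = l from ?_]
        · ring
        · rw [← hd', Finsupp.degree_apply]
          exact (Finset.sum_subset (Finset.subset_univ _) fun j _ hj => Finsupp.notMem_support_iff.1 hj).symm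
      rw [h2, h1, mul_zero]
    intro u t
    refine ⟨fun h => ?_, key _ _⟩
    have := key ((u⁻¹ : kˣ) : k) _ h
    simpa [← mul_assoc] using this
  rw [← Nat.card_eq_finsetCard, ← Nat.card_prod]
  have hmem : ∀ p : kˣ × {t : NIdx n k // ∀ m ∈ idl i, eval (nvec t) m = 0},
      (fun j => (p.1 : k) * nvec p.2.1 j) ∈ cone (idl i) := fun p =>
    mem_cone.2 ⟨fun h => by
      have := congrFun h p.2.1.1
      simp [nvec_self] at this, (hscal p.1 p.2.1).2 p.2.2⟩
  refine (Nat.card_eq_of_bijective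
    (fun p => (⟨_, hmem p⟩ : {v // v ∈ cone (idl i)})) ⟨?_, ?_⟩).symm
  · rintro ⟨c, ⟨⟨b, w⟩, ht⟩⟩ ⟨c', ⟨⟨b', w'⟩, ht'⟩⟩ e
    have e' : ∀ j, (c : k) * nvec ⟨b, w⟩ j = (c' : k) * nvec ⟨b', w'⟩ j := fun j => congrFun (congrArg Subtype.val e) j
    have hle : b' ≤ b := by
      by_contra hlt
      have := e' b
      rw [nvec_self ⟨b, w⟩, nvec_lt ⟨b', w'⟩ (not_le.1 hlt), mul_zero, mul_one] at this
      exact c.ne_zero this
    have hge : b ≤ b' := by
      by_contra hlt
      have := e' b'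
      rw [nvec_self ⟨b', w'⟩, nvec_lt ⟨b, w⟩ (not_le.1 hlt), mul_zero, mul_one] at this
      exact c'.ne_zero this.symm
    obtain rfl := le_antisymm hge hle
    have hc := e' b
    rw [nvec_self ⟨b, w⟩, nvec_self ⟨b, w'⟩, mul_one, mul_one] at hc
    have hcu : c = c' := Units.ext hc
    subst hcu
    have hw : w = w' := funext fun j => by
      have := mul_left_cancel₀ c.ne_zero (e' j.1)
      simpa [nvec, H27Zeta.coord, H27Zeta.extZero, j.2, j.2.ne'] using this
    subst hw
    rfl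
  · rintro ⟨v, hv⟩
    obtain ⟨hv0, hvJ⟩ := mem_cone.1 hv
    have hne : (Finset.univ.filter fun j => v j ≠ 0).Nonempty := by
      obtain ⟨j, hj⟩ := Function.ne_iff.1 hv0
      exact ⟨j, Finset.mem_filter.2 ⟨Finset.mem_univ _, hj⟩⟩
    obtain ⟨b, hb, hmin⟩ : ∃ b, v b ≠ 0 ∧ ∀ j, j < b → v j = 0 :=
      ⟨_, (Finset.mem_filter.1 (Finset.min'_mem _ hne)).2, fun j hj => by
        by_contra h
        exact absurd (Finset.min'_le _ j (Finset.mem_filter.2 ⟨Finset.mem_univ _, h⟩)) (not_le.2 hj)⟩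
    let t : NIdx n k := ⟨b, fun j => v j.1 / v b⟩
    have ht : ∀ j, v b * nvec t j = v j := fun j => by
      rcases lt_trichotomy j b with h | h | h
      · rw [nvec_lt t h, mul_zero, hmin j h]
      · subst h
        rw [nvec_self t, mul_one]
      · simp [t, nvec, H27Zeta.coord, H27Zeta.extZero, h, h.ne', mul_div_cancel₀ _ hb]
    have htc : ∀ m ∈ idl i, eval (nvec t) m = 0 := (hscal (Units.mk0 _ hb) t).1 (by
      rw [show (fun j => ((Units.mk0 (v b) hb : kˣ) : k) * nvec t j) = v from funext ht]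
      exact hvJ)
    exact ⟨(Units.mk0 _ hb, ⟨t, htc⟩), Subtype.ext (funext ht)⟩

end

end Groth.Agent.H27FulTrace.Link
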