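import Groth.Agent.H27FulTrace.Compare
import Groth.Agent.H27FulTrace.Points
import Groth.Agent.H16Derived.FMKWit.GVVanish

/-!
# Fulton's trace formula
-/

set_option autoImplicit false
set_option linter.style.haveILetI false
set_option backward.isDefEq.respectTransparency false

universe u

open CategoryTheory AlgebraicGeometry MvPolynomial TopologicalSpace Opposite
open Groth.Agent.H10Coh Groth.Agent.H10Coh.Pn

namespace Groth.Agent.H27FulTrace.Link

noncomputable section

attribute [local instance 10000] hasSheafifyAb hasWeakSheafifyAb hasExtAb enoughInjAb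

variable {n : ℕ} {k : Type u} [Field k] [Fintype k] {X : Scheme.{u}} [X.Over (Spec (CommRingCat.of k))]
  (i : X ⟶ Proj (CohB1.polyGrading n k)) [IsClosedImmersion i]

theorem isMap_frob_zero :
    Pair.IsMap (dd (n := n) (k := k)) (frob (1 : MvPolynomial (Fin (n + 1)) k)) (fam (Asub n k 0))
      (fam (Jsub (idl i) 0)) (fam (Asub n k 0)) (fam (Jsub (idl i) 0)) :=
  have h1 : (1 : MvPolynomial (Fin (n + 1)) k).IsHomogeneous (0 * (Fintype.card k - 1)) := by
    rw [zero_mul]; exact isHomogeneous_one _ _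
  by simpa using isMap_frob (J := idl i) (e := 0) h1 (mul_pow_card_mem 1)

theorem isMap_smul (r : k) :
    Pair.IsMap (dd (n := n) (k := k)) (fun _ => r • LinearMap.id) (fam (Asub n k 0))
      (fam (Jsub (idl i) 0)) (fam (Asub n k 0)) (fam (Jsub (idl i) 0)) :=
  ⟨fun p x => map_smul (dd p) r x, fun _ _ hx => Submodule.smul_mem _ r hx,
    fun _ _ hx => Submodule.smul_mem _ r hx⟩

variable (hi : i ≫ CohB1.ProjSpace.toSpec n k = X ↘ Spec (CommRingCat.of k))

include hi in
theorem hhEquiv_smul (r : k) (p : ℕ) (y : Hc (idl i) 0 p) : hhEquiv i p (r • y) = r • hhEquiv i p y := by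
  have h := hhEquiv_map (Coh.smulAb (Coh.structureModule X) (Coh.toGlobal (X ↘ Spec (CommRingCat.of k)) r))
    (isMap_smul i r) (fun p a x => ?_) p y
  · refine Eq.trans ?_ h
    obtain ⟨z, rfl⟩ := Pair.cls_surjective _ y
    rw [Pair.hmap_cls, ← map_smul]
    rfl
  · have hs := (isSec_sec a ⟨x.1 (ULift.down ∘ a), mem_fam.1 x.2 _⟩).const hi r
    exact (congrArg (toP (W i a))
      (sec_eq (mem_fam.1 ((isMap_smul i r).mapA p x.1 x.2) (ULift.down ∘ a)) hs)).symm

/-- The comparison, linearly. -/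
def hhLin (p : ℕ) : Hc (idl i) 0 p ≃ₗ[k] Coh.HH X (Coh.structureModule X) p :=
  (hhEquiv i p).toLinearEquiv fun r y => hhEquiv_smul i hi r p y

include hi in
theorem trace_eq (φ : Coh.toAb (Coh.structureModule X) ⟶ Coh.toAb (Coh.structureModule X))
    (hφ : ∀ (U : X.Opens) (s : Γ(X, U)), (φ.hom.app (Opposite.op U)).hom s = s ^ Fintype.card k)
    (T : (p : ℕ) → Coh.HH X (Coh.structureModule X) p →ₗ[k] Coh.HH X (Coh.structureModule X) p)
    (hT : ∀ (p : ℕ) (x : Coh.HH X (Coh.structureModule X) p), T p x = Sheaf.H.map φ p x) (p : ℕ) :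
    LinearMap.trace k _ (T p) = trH (1 : MvPolynomial (Fin (n + 1)) k) (fam (Asub n k 0)) (fam (Jsub (idl i) 0)) p := by
  rw [trH_eq (isMap_frob_zero i), ← LinearMap.trace_conj' (Pair.hmap _ (isMap_frob_zero i) p) (hhLin i hi p)]
  congr 1
  refine LinearMap.ext fun y => ?_
  obtain ⟨x, rfl⟩ := (hhLin i hi p).surjective y
  rw [LinearEquiv.conj_apply_apply, LinearEquiv.symm_apply_apply, hT]
  refine (hhEquiv_map φ (isMap_frob_zero i) (fun p a x => ?_) p x).symm
  have hs := (isSec_sec (i := i) a ⟨x.1 (ULift.down ∘ a), mem_fam.1 x.2 _⟩).pow (Fintype.card k)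
  refine (hφ (W i a) _).trans ?_
  refine (congrArg (toP (W i a)) (sec_eq (mem_fam.1 ((isMap_frob_zero i).mapA p x.1 x.2) (ULift.down ∘ a)) ?_)).symm
  rwa [frob_apply, map_one, one_mul]

omit [Fintype k] in
theorem subsingleton_HH_of_gt_dim (i : X ⟶ Proj (CohB1.polyGrading n k)) [IsClosedImmersion i]
    (hi : i ≫ CohB1.ProjSpace.toSpec n k = X ↘ Spec (CommRingCat.of k)) {d : ℕ}
    (hd : topologicalKrullDim X ≤ (d : WithBot ℕ∞)) {p : ℕ} (hp : d < p) :
    Subsingleton (Coh.HH X (Coh.structureModule X) p) := by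
  haveI : LocallyOfFiniteType (X ↘ Spec (CommRingCat.of k)) := by
    rw [← hi]
    infer_instance
  haveI : QuasiCompact (X ↘ Spec (CommRingCat.of k)) := by
    rw [← hi]
    infer_instance
  haveI : IsLocallyNoetherian X := LocallyOfFiniteType.isLocallyNoetherian (X ↘ Spec (CommRingCat.of k))
  haveI : CompactSpace X := QuasiCompact.compactSpace_of_compactSpace (X ↘ Spec (CommRingCat.of k))
  haveI : IsNoetherian X := {}
  haveI : NoetherianSpace X := inferInstance
  refine H16Derived.FMKWit.subsingleton_HH_of_codim d hd (Coh.structureModule X) 0 (fun y _ => ?_) p (by simpa using hp)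
  rw [Nat.cast_zero]
  exact ringKrullDim_nonneg_of_nontrivial

include hi in
theorem trace_formula {d : ℕ} (hd : topologicalKrullDim X ≤ (d : WithBot ℕ∞))
    (φ : Coh.toAb (Coh.structureModule X) ⟶ Coh.toAb (Coh.structureModule X))
    (hφ : ∀ (U : X.Opens) (s : Γ(X, U)), (φ.hom.app (Opposite.op U)).hom s = s ^ Fintype.card k)
    (T : (p : ℕ) → Coh.HH X (Coh.structureModule X) p →ₗ[k] Coh.HH X (Coh.structureModule X) p)
    (hT : ∀ (p : ℕ) (x : Coh.HH X (Coh.structureModule X) p), T p x = Sheaf.H.map φ p x) :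
    (SgaExt.pointCount (X ↘ Spec (CommRingCat.of k)) k : k) =
      ∑ p ∈ Finset.range (d + 1), (-1 : k) ^ p * LinearMap.trace k _ (T p) := by
  classical
  have hvn : ∀ p, n < p → LinearMap.trace k _ (T p) = 0 := fun p hp => by
    haveI := subsingleton_fam (Asub_mono (n := n) (k := k) 0) (Jsub_mono (J := idl i) 0) hp
    haveI := (hhEquiv i p).symm.toEquiv.subsingleton
    rw [Subsingleton.elim (T p) 0, map_zero]
  have hvd : ∀ p, d < p → LinearMap.trace k _ (T p) = 0 := fun p hp => by
    haveI := subsingleton_HH_of_gt_dim i hi hd hp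
    rw [Subsingleton.elim (T p) 0, map_zero]
  have e1 : ∑ p ∈ Finset.range (d + 1), (-1 : k) ^ p * LinearMap.trace k _ (T p) =
      ∑ p ∈ Finset.range (n + 1), (-1 : k) ^ p * LinearMap.trace k _ (T p) := by
    rcases le_total d n with h | h
    · exact Finset.sum_subset (Finset.range_subset_range.2 (by omega)) fun p _ hp => by
        rw [hvd p (by simpa using hp), mul_zero]
    · exact (Finset.sum_subset (Finset.range_subset_range.2 (by omega)) fun p _ hp => by
        rw [hvn p (by simpa using hp), mul_zero]).symm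
  have e2 : chi (idl i) (0 : ℤ) (1 : MvPolynomial (Fin (n + 1)) k) = -coneSum (idl i) 1 := by
    have h := chi_eq (idl_hGen (i := i)) (e := 0) (h := (1 : MvPolynomial (Fin (n + 1)) k))
      (by rw [zero_mul]; exact isHomogeneous_one _ _)
    simpa using h
  rw [e1, Finset.sum_congr rfl fun p _ => by rw [trace_eq i hi φ hφ T hT p]]
  refine Eq.trans ?_ e2.symm
  rw [coneSum, Finset.sum_congr rfl fun v _ => map_one (MvPolynomial.eval v), Finset.sum_const, nsmul_one, card_cone i,
    pointCount_eq i hi, Nat.card_units, Nat.cast_mul, Nat.cast_sub Nat.card_pos, Nat.card_eq_fintype_card (α := k),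
    FiniteField.cast_card_eq_zero]
  simp

end

end Groth.Agent.H27FulTrace.Link
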