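import Mathlib.LinearAlgebra.Quotient.Basic
import Mathlib.LinearAlgebra.Isomorphisms
import Mathlib.Algebra.Exact

/-!
# Cohomology of pairs of subcomplexes of a fixed complex

For stable families `B ≤ A` of submodules of a complex `V`, `H A B` is the cohomology of `A / B`.
-/

set_option autoImplicit false

universe v w

namespace Groth.Agent.H27FulTrace.Pair

variable {k : Type w} [CommRing k] {V : ℕ → Type v} [∀ p, AddCommGroup (V p)] [∀ p, Module k (V p)]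
  (D : ∀ p, V p →ₗ[k] V (p + 1))

/-- Stability under the differential. -/
def Stable (A : ∀ p, Submodule k (V p)) : Prop := ∀ p, ∀ x ∈ A p, D p x ∈ A (p + 1)

/-- Cocycles of `A / B`. -/
def Z (A B : ∀ p, Submodule k (V p)) (p : ℕ) : Submodule k (V p) := A p ⊓ (B (p + 1)).comap (D p)

/-- Coboundaries of `A / B`. -/
def Bd (A B : ∀ p, Submodule k (V p)) : ∀ p, Submodule k (V p)
  | 0 => B 0
  | p + 1 => B (p + 1) ⊔ (A p).map (D p)

theorem mem_Z {A B : ∀ p, Submodule k (V p)} {p : ℕ} {x : V p} :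
    x ∈ Z D A B p ↔ x ∈ A p ∧ D p x ∈ B (p + 1) := Iff.rfl

theorem le_Bd (A B : ∀ p, Submodule k (V p)) : ∀ p, B p ≤ Bd D A B p
  | 0 => le_rfl
  | _ + 1 => le_sup_left

theorem mem_Bd_succ {A B : ∀ p, Submodule k (V p)} {p : ℕ} {x : V (p + 1)} :
    x ∈ Bd D A B (p + 1) ↔ ∃ b ∈ B (p + 1), ∃ a ∈ A p, b + D p a = x := by
  simp [Bd, Submodule.mem_sup, Submodule.mem_map]

/-- Cohomology of `A / B`. -/
abbrev H (A B : ∀ p, Submodule k (V p)) (p : ℕ) : Type v :=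
  Z D A B p ⧸ (Bd D A B p).submoduleOf (Z D A B p)

/-- The class of a cocycle. -/
def cls {A B : ∀ p, Submodule k (V p)} {p : ℕ} : Z D A B p →ₗ[k] H D A B p := Submodule.mkQ _

theorem cls_surjective {A B : ∀ p, Submodule k (V p)} {p : ℕ} : Function.Surjective (cls D (A := A) (B := B) (p := p)) :=
  Submodule.mkQ_surjective _

theorem cls_eq_zero {A B : ∀ p, Submodule k (V p)} {p : ℕ} {z : Z D A B p} :
    cls D z = 0 ↔ (z : V p) ∈ Bd D A B p :=
  (Submodule.Quotient.mk_eq_zero _).trans Iff.rfl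

theorem cls_eq {A B : ∀ p, Submodule k (V p)} {p : ℕ} {z z' : Z D A B p} :
    cls D z = cls D z' ↔ (z : V p) - z' ∈ Bd D A B p := by
  rw [← sub_eq_zero, ← map_sub, cls_eq_zero]
  rfl

theorem hom_ext {A B : ∀ p, Submodule k (V p)} {p : ℕ} {M : Type*} [AddCommGroup M] [Module k M]
    {f g : H D A B p →ₗ[k] M} (h : ∀ z, f (cls D z) = g (cls D z)) : f = g :=
  LinearMap.ext fun x => by
    obtain ⟨z, rfl⟩ := cls_surjective D x
    exact h z

theorem subsingleton_H {A B : ∀ p, Submodule k (V p)} {p : ℕ}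
    (h : ∀ x ∈ A p, D p x ∈ B (p + 1) → x ∈ Bd D A B p) : Subsingleton (H D A B p) :=
  subsingleton_of_forall_eq 0 fun x => by
    obtain ⟨⟨z, hz⟩, rfl⟩ := cls_surjective D x
    exact (cls_eq_zero D).2 (h z hz.1 hz.2)

/-- Maps of pairs. -/
structure IsMap (φ : ∀ p, V p →ₗ[k] V p) (A B A' B' : ∀ p, Submodule k (V p)) : Prop where
  comm : ∀ p x, D p (φ p x) = φ (p + 1) (D p x)
  mapA : ∀ p, ∀ x ∈ A p, φ p x ∈ A' p
  mapB : ∀ p, ∀ x ∈ B p, φ p x ∈ B' p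

variable {φ : ∀ p, V p →ₗ[k] V p} {A B A' B' : ∀ p, Submodule k (V p)}

theorem IsMap.mapBd (hφ : IsMap D φ A B A' B') : ∀ p, ∀ x ∈ Bd D A B p, φ p x ∈ Bd D A' B' p
  | 0, x, hx => hφ.mapB 0 x hx
  | p + 1, x, hx => by
    obtain ⟨b, hb, a, ha, rfl⟩ := (mem_Bd_succ D).1 hx
    exact (mem_Bd_succ D).2 ⟨φ (p + 1) b, hφ.mapB _ b hb, φ p a, hφ.mapA p a ha, by rw [map_add, hφ.comm]⟩

theorem IsMap.mapZ (hφ : IsMap D φ A B A' B') (p : ℕ) (x : V p) (hx : x ∈ Z D A B p) : φ p x ∈ Z D A' B' p :=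
  ⟨hφ.mapA p x hx.1, show D p (φ p x) ∈ B' (p + 1) by rw [hφ.comm]; exact hφ.mapB _ _ hx.2⟩

/-- The map on cohomology. -/
def hmap (hφ : IsMap D φ A B A' B') (p : ℕ) : H D A B p →ₗ[k] H D A' B' p :=
  Submodule.mapQ _ _ ((φ p).restrict fun x hx => hφ.mapZ D p x hx) fun z hz => hφ.mapBd D p z hz

theorem hmap_cls (hφ : IsMap D φ A B A' B') (p : ℕ) (z : Z D A B p) :
    hmap D hφ p (cls D z) = cls D ⟨φ p z, hφ.mapZ D p z z.2⟩ := rfl

/-- Identity as a map of pairs. -/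
theorem isMap_id (hA : ∀ p, A p ≤ A' p) (hB : ∀ p, B p ≤ B' p) :
    IsMap D (fun _ => LinearMap.id) A B A' B' :=
  ⟨fun _ _ => rfl, fun p _ hx => hA p hx, fun p _ hx => hB p hx⟩

variable (A B B') in
/-- A triple `B ≤ B' ≤ A` of stable families. -/
structure Triple : Prop where
  le₁ : ∀ p, B p ≤ B' p
  le₂ : ∀ p, B' p ≤ A p
  dd : ∀ p x, D (p + 1) (D p x) = 0
  stabA : Stable D A
  stabB : Stable D B
  stabB' : Stable D B'

variable (T : Triple D A B B')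

/-- `H(B', B) → H(A, B)`. -/
def inc (p : ℕ) : H D B' B p →ₗ[k] H D A B p := hmap D (isMap_id D T.le₂ fun _ => le_rfl) p

/-- `H(A, B) → H(A, B')`. -/
def prj (p : ℕ) : H D A B p →ₗ[k] H D A B' p := hmap D (isMap_id D (fun _ => le_rfl) T.le₁) p

include T in
theorem d_mem_Z (p : ℕ) (x : V p) (hx : x ∈ Z D A B' p) : D p x ∈ Z D B' B (p + 1) :=
  ⟨hx.2, show D (p + 1) (D p x) ∈ B (p + 1 + 1) by rw [T.dd]; exact zero_mem _⟩

include T in
theorem d_mem_Bd : ∀ (p : ℕ), ∀ x ∈ Bd D A B' p, D p x ∈ Bd D B' B (p + 1)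
  | 0, x, hx => (mem_Bd_succ D).2 ⟨0, zero_mem _, x, hx, zero_add _⟩
  | p + 1, x, hx => by
    obtain ⟨b, hb, a, -, rfl⟩ := (mem_Bd_succ D).1 hx
    exact (mem_Bd_succ D).2 ⟨0, zero_mem _, b, hb, by rw [zero_add, map_add, T.dd p a, add_zero]⟩

/-- The connecting map `H^p(A, B') → H^(p+1)(B', B)`. -/
def conn (p : ℕ) : H D A B' p →ₗ[k] H D B' B (p + 1) :=
  Submodule.mapQ _ _ ((D p).restrict fun x hx => d_mem_Z D T p x hx) fun z hz => d_mem_Bd D T p z hz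

theorem conn_cls (p : ℕ) (z : Z D A B' p) :
    conn D T p (cls D z) = cls D ⟨D p z, d_mem_Z D T p z z.2⟩ := rfl

theorem inc_cls (p : ℕ) (z : Z D B' B p) :
    inc D T p (cls D z) = cls D ⟨(z : V p), ⟨T.le₂ p z.2.1, z.2.2⟩⟩ := rfl

theorem prj_cls (p : ℕ) (z : Z D A B p) :
    prj D T p (cls D z) = cls D ⟨(z : V p), ⟨z.2.1, T.le₁ _ z.2.2⟩⟩ := rfl

theorem inc_zero_injective : Function.Injective (inc D T 0) := by
  refine (injective_iff_map_eq_zero _).2 fun x hx => ?_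
  obtain ⟨z, rfl⟩ := cls_surjective D x
  rw [inc_cls, cls_eq_zero] at hx
  exact (cls_eq_zero D).2 hx

theorem exact_inc_prj (p : ℕ) : Function.Exact (inc D T p) (prj D T p) := by
  intro y
  obtain ⟨⟨y, hy⟩, rfl⟩ := cls_surjective D y
  constructor
  · intro h
    rw [prj_cls, cls_eq_zero] at h
    match p, y, hy, h with
    | 0, y, hy, h => exact ⟨cls D ⟨y, h, hy.2⟩, rfl⟩
    | p + 1, y, hy, h =>
      obtain ⟨b, hb, a, ha, rfl⟩ := (mem_Bd_succ D).1 h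
      have hb' : b ∈ Z D B' B (p + 1) := (mem_Z D).2 ⟨hb, by
        have := ((mem_Z D).1 hy).2
        rwa [map_add, T.dd, add_zero] at this⟩
      refine ⟨cls D ⟨b, hb'⟩, ?_⟩
      rw [inc_cls, cls_eq]
      exact (mem_Bd_succ D).2 ⟨0, zero_mem _, -a, neg_mem ha, by rw [zero_add, map_neg]; simp⟩
  · rintro ⟨x, hx⟩
    obtain ⟨⟨z, hz⟩, rfl⟩ := cls_surjective D x
    rw [← hx, inc_cls, prj_cls, cls_eq_zero]
    exact le_Bd D A B' p hz.1

theorem exact_prj_conn (p : ℕ) : Function.Exact (prj D T p) (conn D T p) := by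
  intro y
  obtain ⟨⟨y, hy⟩, rfl⟩ := cls_surjective D y
  constructor
  · intro h
    rw [conn_cls, cls_eq_zero] at h
    obtain ⟨b, hb, b', hb', e⟩ := (mem_Bd_succ D).1 h
    have hz : y - b' ∈ Z D A B p := (mem_Z D).2 ⟨sub_mem hy.1 (T.le₂ p hb'), by
      rw [map_sub]
      have e' : b + D p b' = D p y := e
      rw [← e', add_sub_cancel_right]
      exact hb⟩
    refine ⟨cls D ⟨y - b', hz⟩, ?_⟩
    rw [prj_cls, cls_eq]
    exact le_Bd D A B' p (by simpa using neg_mem hb')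
  · rintro ⟨x, hx⟩
    obtain ⟨⟨z, hz⟩, rfl⟩ := cls_surjective D x
    rw [← hx, prj_cls, conn_cls, cls_eq_zero]
    exact le_Bd D B' B (p + 1) hz.2

theorem exact_conn_inc (p : ℕ) : Function.Exact (conn D T p) (inc D T (p + 1)) := by
  intro y
  obtain ⟨⟨y, hy⟩, rfl⟩ := cls_surjective D y
  constructor
  · intro h
    rw [inc_cls, cls_eq_zero] at h
    obtain ⟨b, hb, a, ha, e⟩ := (mem_Bd_succ D).1 h
    have hz : a ∈ Z D A B' p := (mem_Z D).2 ⟨ha, by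
      rw [eq_sub_of_add_eq' e]
      exact sub_mem hy.1 (T.le₁ _ hb)⟩
    refine ⟨cls D ⟨a, hz⟩, ?_⟩
    rw [conn_cls, cls_eq]
    refine le_Bd D B' B _ ?_
    show D p a - y ∈ B (p + 1)
    rw [eq_sub_of_add_eq' e]
    simpa using neg_mem hb
  · rintro ⟨x, hx⟩
    obtain ⟨⟨z, hz⟩, rfl⟩ := cls_surjective D x
    rw [← hx, conn_cls, inc_cls, cls_eq_zero]
    exact (mem_Bd_succ D).2 ⟨0, zero_mem _, z, hz.1, zero_add _⟩

variable {φ' : ∀ p, V p →ₗ[k] V p}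

theorem inc_comm (h₁ : IsMap D φ' B' B B' B) (h₂ : IsMap D φ' A B A B) (p : ℕ) :
    (inc D T p).comp (hmap D h₁ p) = (hmap D h₂ p).comp (inc D T p) :=
  hom_ext D fun _ => rfl

theorem prj_comm (h₂ : IsMap D φ' A B A B) (h₃ : IsMap D φ' A B' A B') (p : ℕ) :
    (prj D T p).comp (hmap D h₂ p) = (hmap D h₃ p).comp (prj D T p) :=
  hom_ext D fun _ => rfl

theorem conn_comm (h₁ : IsMap D φ' B' B B' B) (h₃ : IsMap D φ' A B' A B') (p : ℕ) :
    (conn D T p).comp (hmap D h₃ p) = (hmap D h₁ (p + 1)).comp (conn D T p) :=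
  hom_ext D fun z => congrArg (cls D) (Subtype.ext (h₃.comm p z))

/-- The criterion for a map of pairs to be an isomorphism on cohomology. -/
theorem bijective_hmap (hφ : IsMap D φ A B A' B') (hstab : Stable D A) (hstab' : Stable D B')
    (hsurj : ∀ p, ∀ y ∈ A' p, ∃ x ∈ A p, y - φ p x ∈ B' p)
    (hinj : ∀ p, ∀ x ∈ A p, φ p x ∈ B' p → x ∈ B p) (p : ℕ) : Function.Bijective (hmap D hφ p) := by
  constructor
  · refine (injective_iff_map_eq_zero _).2 fun x hx => ?_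
    obtain ⟨⟨z, hz⟩, rfl⟩ := cls_surjective D x
    rw [hmap_cls, cls_eq_zero] at hx
    rw [cls_eq_zero]
    match p, z, hz, hx with
    | 0, z, hz, hx => exact hinj 0 z hz.1 hx
    | p + 1, z, hz, hx =>
      obtain ⟨b, hb, a', ha', e⟩ := (mem_Bd_succ D).1 hx
      obtain ⟨a, ha, hb''⟩ := hsurj p a' ha'
      refine (mem_Bd_succ D).2 ⟨z - D p a, hinj _ _ (sub_mem hz.1 (hstab p a ha)) ?_, a, ha, sub_add_cancel _ _⟩
      have h2 : φ (p + 1) (z - D p a) = b + D p (a' - φ p a) := by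
        rw [map_sub, map_sub, hφ.comm, ← add_sub_assoc, e]
      rw [h2]
      exact add_mem hb (hstab' p _ hb'')
  · intro y
    obtain ⟨⟨w, hw⟩, rfl⟩ := cls_surjective D y
    obtain ⟨z, hz, hb⟩ := hsurj p w hw.1
    have hz' : z ∈ Z D A B p := ⟨hz, hinj _ _ (hstab p z hz) (by
      rw [← hφ.comm]
      have : D p (φ p z) = D p w - D p (w - φ p z) := by simp
      rw [this]
      exact sub_mem hw.2 (hstab' p _ hb))⟩
    refine ⟨cls D ⟨z, hz'⟩, ?_⟩
    rw [hmap_cls, cls_eq]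
    exact le_Bd D A' B' p (by simpa using neg_mem hb)

end Groth.Agent.H27FulTrace.Pair
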