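import Groth.Agent.H27FulTrace.Ind
import Groth.Agent.H11Proj.ClosedSub
import Groth.Agent.H11Proj.ProjSpace
import Groth.Agent.H10Coh.Pn.Global
import Groth.Agent.H15Site.CechTop

/-!
# Laurent monomials as functions on a closed subscheme of projective space
-/

set_option autoImplicit false
set_option linter.style.haveILetI false
set_option backward.isDefEq.respectTransparency false

universe u

open CategoryTheory AlgebraicGeometry MvPolynomial TopologicalSpace Opposite
open Groth.Agent.H10Coh.Pn Groth.Agent.H15Site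

namespace Groth.Agent.H27FulTrace.Link

noncomputable section

variable {n : ℕ} {k : Type u} [Field k] {X : Scheme.{u}} (i : X ⟶ Proj (CohB1.polyGrading n k))

/-- The indices of the standard cover, in universe `u`. -/
abbrev Ix (n : ℕ) : Type u := ULift.{u} (Fin (n + 1))

/-- A variable. -/
abbrev xv (j : Ix.{u} n) : MvPolynomial (Fin (n + 1)) k := MvPolynomial.X j.down

theorem xv_mem (j : Ix.{u} n) : (xv j : MvPolynomial (Fin (n + 1)) k) ∈ CohB1.polyGrading n k 1 :=
  isHomogeneous_X k j.down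

/-- The trace of the standard cover. -/
abbrev cov (j : Ix.{u} n) : X.Opens := i ⁻¹ᵁ Proj.basicOpen (CohB1.polyGrading n k) (xv j)

/-- The ideal of `X`. -/
def idl : Ideal (MvPolynomial (Fin (n + 1)) k) :=
  H11Proj.idealOf (CohB1.polyGrading n k) (xv (n := n) (k := k)) xv_mem i

/-- `m / x_b ^ l` on an open inside the `b`-th chart. -/
def rat {W : X.Opens} (b : Ix.{u} n) (hb : W ≤ cov i b) {l : ℕ} {m : MvPolynomial (Fin (n + 1)) k}
    (hm : m ∈ CohB1.polyGrading n k l) : Γ(X, W) :=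
  X.presheaf.map (homOfLE hb).op
    (i.app (Proj.basicOpen (CohB1.polyGrading n k) (xv b)) (H11Tilde.ratio (CohB1.polyGrading n k) (xv_mem b) hm))

variable {i}

theorem rat_congr {W : X.Opens} {b : Ix.{u} n} (hb : W ≤ cov i b) {l l' : ℕ} {m m' : MvPolynomial (Fin (n + 1)) k}
    (hm : m ∈ CohB1.polyGrading n k l) (hm' : m' ∈ CohB1.polyGrading n k l') (e : m = m') (e' : l = l') :
    rat i b hb hm = rat i b hb hm' := by
  subst e e'
  rfl

theorem rat_res {W W' : X.Opens} (h : W' ≤ W) {b : Ix.{u} n} (hb : W ≤ cov i b) {l : ℕ}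
    {m : MvPolynomial (Fin (n + 1)) k} (hm : m ∈ CohB1.polyGrading n k l) :
    X.presheaf.map (homOfLE h).op (rat i b hb hm) = rat i b (h.trans hb) hm :=
  rmap_rmap _ _ _ _

theorem rat_mul {W : X.Opens} {b : Ix.{u} n} (hb : W ≤ cov i b) {l l' : ℕ} {m m' : MvPolynomial (Fin (n + 1)) k}
    (hm : m ∈ CohB1.polyGrading n k l) (hm' : m' ∈ CohB1.polyGrading n k l') :
    rat i b hb (SetLike.mul_mem_graded hm hm') = rat i b hb hm * rat i b hb hm' := by
  rw [rat, rat, rat, H11Tilde.ratio_mul, map_mul, map_mul]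

theorem rat_add {W : X.Opens} {b : Ix.{u} n} (hb : W ≤ cov i b) {l : ℕ} {m m' : MvPolynomial (Fin (n + 1)) k}
    (hm : m ∈ CohB1.polyGrading n k l) (hm' : m' ∈ CohB1.polyGrading n k l) :
    rat i b hb (add_mem hm hm') = rat i b hb hm + rat i b hb hm' := by
  rw [rat, rat, rat, H11Tilde.ratio_add, map_add, map_add]

theorem rat_one {W : X.Opens} {b : Ix.{u} n} (hb : W ≤ cov i b) :
    rat i b hb (SetLike.one_mem_graded (CohB1.polyGrading n k)) = 1 := by
  rw [rat, H11Tilde.ratio_one, map_one, map_one]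

theorem rat_zero {W : X.Opens} {b : Ix.{u} n} (hb : W ≤ cov i b) {l : ℕ} :
    rat i b hb (zero_mem (CohB1.polyGrading n k l)) = 0 := by
  rw [rat, H11Tilde.ratio_zero, map_zero, map_zero]

theorem rat_pow {W : X.Opens} {b : Ix.{u} n} (hb : W ≤ cov i b) {l : ℕ} {m : MvPolynomial (Fin (n + 1)) k}
    (hm : m ∈ CohB1.polyGrading n k l) (r : ℕ) :
    rat i b hb (SetLike.pow_mem_graded r hm) = rat i b hb hm ^ r := by
  rw [rat, rat, H11Tilde.ratio_pow, map_pow, map_pow]

theorem rat_self {W : X.Opens} {b : Ix.{u} n} (hb : W ≤ cov i b) : rat i b hb (xv_mem (k := k) b) = 1 := by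
  rw [rat, H11Tilde.ratio_self, map_one, map_one]

theorem rat_base {W : X.Opens} {b b' : Ix.{u} n} (hb : W ≤ cov i b) (hb' : W ≤ cov i b') {l : ℕ}
    {m : MvPolynomial (Fin (n + 1)) k} (hm : m ∈ CohB1.polyGrading n k l) :
    rat i b hb hm = rat i b hb (xv_mem b') ^ l * rat i b' hb' hm := by
  let 𝒜 := CohB1.polyGrading n k
  let P := Proj.basicOpen 𝒜 (xv (k := k) b) ⊓ Proj.basicOpen 𝒜 (xv (k := k) b')
  have hP : W ≤ i ⁻¹ᵁ P := fun x hx => ⟨hb hx, hb' hx⟩
  have key : ∀ {c : Ix.{u} n} {l' : ℕ} {m' : MvPolynomial (Fin (n + 1)) k} (hm' : m' ∈ 𝒜 l')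
      (h : P ≤ Proj.basicOpen 𝒜 (xv (k := k) c)) (hc : W ≤ cov i c),
      rat i c hc hm' = X.presheaf.map (homOfLE hP).op
        (i.app P ((Proj 𝒜).presheaf.map (homOfLE h).op (H11Tilde.ratio 𝒜 (xv_mem c) hm'))) := by
    intro c l' m' hm' h hc
    have h2 := congr($(i.naturality (homOfLE h).op) (H11Tilde.ratio 𝒜 (xv_mem c) hm'))
    rw [CommRingCat.comp_apply, CommRingCat.comp_apply] at h2
    rw [h2]
    exact (rmap_rmap _ _ _ _).symm
  rw [key hm inf_le_left hb, key (xv_mem b') inf_le_left hb, key hm inf_le_right hb',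
    H11Tilde.res_ratio 𝒜 (xv_mem b') (xv_mem b) hm inf_le_right inf_le_left, map_mul, map_mul, map_pow, map_pow]

theorem isUnit_rat_xv {W : X.Opens} {b b' : Ix.{u} n} (hb : W ≤ cov i b) (hb' : W ≤ cov i b') :
    IsUnit (rat i b hb (xv_mem (k := k) b')) := by
  have h := rat_base hb hb' (xv_mem (k := k) b)
  rw [rat_self, pow_one] at h
  exact IsUnit.of_mul_eq_one _ h.symm

theorem rat_monomial_mul {W : X.Opens} {b : Ix.{u} n} (hb : W ≤ cov i b) (q : Fin (n + 1) →₀ ℕ) :
    rat i b hb (l := q.degree) (m := monomial q 1) (isHomogeneous_monomial 1 rfl) =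
      ∏ j : Fin (n + 1), rat i b hb (xv_mem (k := k) ⟨j⟩) ^ q j := by
  induction q using Finsupp.induction with
  | zero =>
    rw [rat_congr hb _ (SetLike.one_mem_graded (CohB1.polyGrading n k)) rfl (map_zero _), rat_one]
    simp
  | single_add a c q _ _ ih =>
    have hmq : (monomial q 1 : MvPolynomial (Fin (n + 1)) k) ∈ CohB1.polyGrading n k q.degree :=
      isHomogeneous_monomial 1 rfl
    rw [rat_congr hb _ (SetLike.mul_mem_graded (SetLike.pow_mem_graded c (xv_mem (k := k) ⟨a⟩)) hmq)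
      (by rw [xv, MvPolynomial.X_pow_eq_monomial, monomial_mul, one_mul]) (by simp)]
    rw [rat_mul hb (SetLike.pow_mem_graded c (xv_mem (k := k) ⟨a⟩)) hmq, rat_pow hb (xv_mem (k := k) ⟨a⟩), ih]
    have hs : rat i b hb (xv_mem (k := k) ⟨a⟩) ^ c =
        ∏ j : Fin (n + 1), rat i b hb (xv_mem (k := k) ⟨j⟩) ^ (Finsupp.single a c : Fin (n + 1) →₀ ℕ) j := by
      rw [Finset.prod_eq_single a (fun j _ hj => by rw [Finsupp.single_eq_of_ne hj, pow_zero]) (by simp),
        Finsupp.single_eq_same]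
    rw [hs, ← Finset.prod_mul_distrib]
    exact Finset.prod_congr rfl fun j _ => by rw [Finsupp.add_apply, pow_add]

theorem isUnit_rat_monomial {W : X.Opens} {b : Ix.{u} n} (hb : W ≤ cov i b) {q : Fin (n + 1) →₀ ℕ}
    (hq : ∀ j, q j ≠ 0 → W ≤ cov i ⟨j⟩) :
    IsUnit (rat i b hb (l := q.degree) (m := monomial q 1) (isHomogeneous_monomial 1 rfl)) := by
  rw [rat_monomial_mul, IsUnit.prod_univ_iff]
  intro j
  by_cases hj : q j = 0
  · rw [hj, pow_zero]; exact isUnit_one
  · exact (isUnit_rat_xv hb (hq j hj)).pow _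

theorem idl_hGen : HGen (idl i) := by
  classical
  have hs : idl i = Ideal.span {m | (∃ l, m.IsHomogeneous l) ∧ m ∈ idl i} := by
    refine le_antisymm (fun m hm => ?_) (Ideal.span_le.2 fun m hm => hm.2)
    rw [← DirectSum.sum_support_decompose (CohB1.polyGrading n k) m]
    exact sum_mem fun l _ => Ideal.subset_span
      ⟨⟨l, (DirectSum.decompose (CohB1.polyGrading n k) m l).2⟩, H11Proj.idealOf_isHomogeneous _ _ _ i l hm⟩
  obtain ⟨s, hs', e⟩ := (Submodule.fg_span_iff_fg_span_finset_subset _).1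
    (IsNoetherian.noetherian (Submodule.span (MvPolynomial (Fin (n + 1)) k)
      {m : MvPolynomial (Fin (n + 1)) k | (∃ l, m.IsHomogeneous l) ∧ m ∈ idl i}))
  exact ⟨s, fun m hm => (hs' hm).1, hs.trans e⟩

theorem rat_const [X.Over (Spec (CommRingCat.of k))]
    (hi : i ≫ CohB1.ProjSpace.toSpec n k = X ↘ Spec (CommRingCat.of k))
    {W : X.Opens} {b : Ix.{u} n} (hb : W ≤ cov i b) (r : k) :
    rat i b hb (l := 0) (m := C r) (isHomogeneous_C (Fin (n + 1)) r) =
      X.presheaf.map (homOfLE (le_top : W ≤ ⊤)).op (Coh.toGlobal (X ↘ Spec (CommRingCat.of k)) r) := by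
  have h0 : H11Tilde.ratio (CohB1.polyGrading n k) (xv_mem (k := k) b) (k := 0) (a := C r)
      (isHomogeneous_C (Fin (n + 1)) r) =
      (Proj (CohB1.polyGrading n k)).presheaf.map (homOfLE le_top).op (constΓ (n := n) (R := k) r) := by
    refine H11Tilde.fval_ext _ fun x => ?_
    rw [fval_constΓ (xv_mem (k := k) b) Nat.one_pos r x, H11Tilde.fval_ratio]
    exact Localization.mk_eq_mk_iff.2 (Localization.r_iff_exists.2 ⟨1, by simp⟩)
  rw [rat, h0]
  have h2 := congr($(i.naturality (homOfLE (le_top : Proj.basicOpen (CohB1.polyGrading n k) (xv (k := k) b) ≤ ⊤)).op)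
    (constΓ (n := n) (R := k) r))
  rw [CommRingCat.comp_apply, CommRingCat.comp_apply] at h2
  rw [h2]
  have h3 : i.app ⊤ (constΓ (n := n) (R := k) r) = Coh.toGlobal (X ↘ Spec (CommRingCat.of k)) r := by
    have e : (X ↘ Spec (CommRingCat.of k)).appTop = (CohB1.ProjSpace.toSpec n k).appTop ≫ i.appTop := by
      rw [← hi, Scheme.Hom.comp_appTop]
    exact (congr($e ((Scheme.ΓSpecIso (CommRingCat.of k)).inv r))).symm
  rw [← h3]
  exact rmap_rmap _ _ _ _

end

end Groth.Agent.H27FulTrace.Link
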