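import Groth.Agent.H27FulTrace.Rat
import Groth.Agent.H10Coh.Pn.Vanishing

/-!
# Sections on intersections of the standard cover as Laurent polynomials
-/

set_option autoImplicit false
set_option linter.style.haveILetI false
set_option backward.isDefEq.respectTransparency false

universe u

open CategoryTheory AlgebraicGeometry MvPolynomial TopologicalSpace Opposite
open Groth.Agent.H10Coh.Pn Groth.Agent.H15Site

namespace Groth.Agent.H27FulTrace.Link

noncomputable section

variable {n : ℕ} {k : Type u} [Field k] {X : Scheme.{u}} (i : X ⟶ Proj (CohB1.polyGrading n k))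

/-- The intersection attached to a tuple. -/
abbrev W {p : ℕ} (a : Fin (p + 1) → Ix.{u} n) : X.Opens := CechTop.cap (X := X.toTopCat) (cov i) a

/-- The indices of a tuple. -/
abbrev sup' {p : ℕ} (a : Fin (p + 1) → Ix.{u} n) : Set (Fin (n + 1)) := Set.range (ULift.down ∘ a)

theorem W_le {p : ℕ} (a : Fin (p + 1) → Ix.{u} n) (l : Fin (p + 1)) : W i a ≤ cov i (a l) :=
  iInf_le (fun l => cov i (a l)) l

theorem W_le_cov {p : ℕ} {a : Fin (p + 1) → Ix.{u} n} {j : Fin (n + 1)} (hj : j ∈ sup' a) : W i a ≤ cov i ⟨j⟩ := by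
  obtain ⟨l, hl⟩ := hj
  subst hl
  exact W_le i a l

/-- `s` is the value of the Laurent polynomial `z` on `W a`. -/
def IsSec {p : ℕ} (a : Fin (p + 1) → Ix.{u} n) (z : L n k) (s : Γ(X, W i a)) : Prop :=
  ∃ (q : Fin (n + 1) →₀ ℕ) (_ : ∀ j, j ∉ sup' a → q j = 0) (m : MvPolynomial (Fin (n + 1)) k)
    (hm : m ∈ CohB1.polyGrading n k q.degree), toL n k m = z * T (castE n q) ∧
    s * rat i (a 0) (W_le i a 0) (l := q.degree) (m := monomial q 1) (isHomogeneous_monomial 1 rfl) =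
      rat i (a 0) (W_le i a 0) hm

variable {i} {p : ℕ} {a : Fin (p + 1) → Ix.{u} n}

theorem isUnit_q {b : Ix.{u} n} (hb : W i a ≤ cov i b) {q : Fin (n + 1) →₀ ℕ}
    (hq : ∀ j, j ∉ sup' a → q j = 0) :
    IsUnit (rat i b hb (l := q.degree) (m := monomial q 1) (isHomogeneous_monomial 1 rfl)) :=
  isUnit_rat_monomial hb fun j hj => W_le_cov i (by by_contra h; exact hj (hq j h))

theorem exists_isSec {z : L n k} (hz : z ∈ Asub n k 0 (sup' a)) : ∃ s, IsSec i a z s := by
  obtain ⟨q, hq, l, m, -, e⟩ := exists_rep hz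
  have hm : m ∈ CohB1.polyGrading n k q.degree := by
    have := isHomogeneous_of_toL hz e
    rwa [add_zero, Int.toNat_natCast] at this
  obtain ⟨v, hv⟩ := isUnit_q (i := i) (W_le i a 0) hq
  refine ⟨rat i (a 0) (W_le i a 0) hm * ↑v⁻¹, q, hq, m, hm, e, ?_⟩
  rw [← hv, mul_assoc, Units.inv_mul, mul_one]

theorem rat_mul_monomial {b : Ix.{u} n} {U : X.Opens} (hb : U ≤ cov i b) {l : ℕ}
    {m : MvPolynomial (Fin (n + 1)) k} (hm : m ∈ CohB1.polyGrading n k l) (q : Fin (n + 1) →₀ ℕ) :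
    rat i b hb (SetLike.mul_mem_graded hm
        (show (monomial q 1 : MvPolynomial (Fin (n + 1)) k) ∈ CohB1.polyGrading n k q.degree from
          isHomogeneous_monomial 1 rfl)) =
      rat i b hb hm * rat i b hb (l := q.degree) (m := monomial q 1) (isHomogeneous_monomial 1 rfl) :=
  rat_mul hb hm _

theorem IsSec.unique {z : L n k} {s s' : Γ(X, W i a)} (h : IsSec i a z s) (h' : IsSec i a z s') : s = s' := by
  obtain ⟨q, hq, m, hm, e, hs⟩ := h
  obtain ⟨q', hq', m', hm', e', hs'⟩ := h'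
  refine ((isUnit_q (i := i) (W_le i a 0) hq).mul (isUnit_q (i := i) (W_le i a 0) hq')).mul_right_cancel ?_
  have he : m * monomial q' 1 = m' * monomial q 1 := toL_injective n k (by
    rw [map_mul, map_mul, toL_mon, toL_mon, e, e']; ring)
  rw [← mul_assoc, hs, mul_comm (rat i (a 0) (W_le i a 0) (m := monomial q 1) _), ← mul_assoc, hs',
    ← rat_mul_monomial (W_le i a 0) hm q', ← rat_mul_monomial (W_le i a 0) hm' q]
  exact rat_congr _ _ _ he (add_comm _ _ |>.trans (by ring))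

theorem IsSec.add {z z' : L n k} {s s' : Γ(X, W i a)} (h : IsSec i a z s) (h' : IsSec i a z' s') :
    IsSec i a (z + z') (s + s') := by
  obtain ⟨q, hq, m, hm, e, hs⟩ := h
  obtain ⟨q', hq', m', hm', e', hs'⟩ := h'
  have hmq : (monomial q 1 : MvPolynomial (Fin (n + 1)) k) ∈ CohB1.polyGrading n k q.degree :=
    isHomogeneous_monomial 1 rfl
  have hmq' : (monomial q' 1 : MvPolynomial (Fin (n + 1)) k) ∈ CohB1.polyGrading n k q'.degree :=
    isHomogeneous_monomial 1 rfl
  have h1 : m * monomial q' 1 ∈ CohB1.polyGrading n k (q + q').degree := by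
    rw [map_add]; exact SetLike.mul_mem_graded hm hmq'
  have h2 : m' * monomial q 1 ∈ CohB1.polyGrading n k (q + q').degree := by
    rw [map_add, Nat.add_comm q.degree q'.degree]; exact SetLike.mul_mem_graded hm' hmq
  refine ⟨q + q', fun j hj => by simp [hq j hj, hq' j hj], m * monomial q' 1 + m' * monomial q 1, add_mem h1 h2,
    ?_, ?_⟩
  · rw [map_add, map_mul, map_mul, toL_mon, toL_mon, e, e', map_add, ← T_mul]
    ring
  · rw [rat_congr (m' := monomial q 1 * monomial q' 1) (W_le i a 0) _ (SetLike.mul_mem_graded hmq hmq')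
      (by rw [monomial_mul, one_mul]) (map_add _ _ _), rat_mul (W_le i a 0) hmq hmq', rat_add (W_le i a 0) h1 h2,
      rat_congr (W_le i a 0) h1 (SetLike.mul_mem_graded hm hmq') rfl (map_add _ _ _),
      rat_congr (W_le i a 0) h2 (SetLike.mul_mem_graded hm' hmq) rfl ((map_add _ _ _).trans (add_comm _ _)),
      rat_mul (W_le i a 0) hm hmq', rat_mul (W_le i a 0) hm' hmq]
    linear_combination rat i (a 0) (W_le i a 0) hmq' * hs + rat i (a 0) (W_le i a 0) hmq * hs'

theorem IsSec.const [X.Over (Spec (CommRingCat.of k))]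
    (hi : i ≫ CohB1.ProjSpace.toSpec n k = X ↘ Spec (CommRingCat.of k)) {z : L n k} {s : Γ(X, W i a)}
    (h : IsSec i a z s) (r : k) :
    IsSec i a (r • z)
      (X.presheaf.map (homOfLE (le_top : W i a ≤ ⊤)).op (Coh.toGlobal (X ↘ Spec (CommRingCat.of k)) r) * s) := by
  obtain ⟨q, hq, m, hm, e, hs⟩ := h
  have h1 : C r * m ∈ CohB1.polyGrading n k q.degree := by
    simpa using SetLike.mul_mem_graded
      (show C r ∈ CohB1.polyGrading n k 0 from isHomogeneous_C (Fin (n + 1)) r) hm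
  refine ⟨q, hq, C r * m, h1, ?_, ?_⟩
  · rw [map_mul, show (C r : MvPolynomial (Fin (n + 1)) k) = monomial 0 r from rfl, toL_monomial, map_zero, e,
      Algebra.smul_def, mul_assoc]
    rfl
  · rw [mul_assoc, hs, ← rat_const hi (W_le i a 0) r, ← rat_mul]
    exact rat_congr _ _ _ rfl (zero_add _)

theorem IsSec.pow {z : L n k} {s : Γ(X, W i a)} (h : IsSec i a z s) (N : ℕ) : IsSec i a (z ^ N) (s ^ N) := by
  obtain ⟨q, hq, m, hm, e, hs⟩ := h
  have h1 : m ^ N ∈ CohB1.polyGrading n k (N • q).degree := by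
    rw [map_nsmul]; exact SetLike.pow_mem_graded N hm
  refine ⟨N • q, fun j hj => by simp [hq j hj], m ^ N, h1, ?_, ?_⟩
  · rw [map_pow, e, mul_pow, map_nsmul, T, T, AddMonoidAlgebra.single_pow, one_pow]
  · rw [rat_congr (W_le i a 0) h1 (SetLike.pow_mem_graded N hm) rfl (map_nsmul _ _ _), rat_pow (W_le i a 0) hm, ← hs,
      mul_pow, ← rat_pow]
    refine congrArg _ (rat_congr _ _ _ ?_ (map_nsmul _ _ _))
    rw [monomial_pow, one_pow]

theorem IsSec.res {p' : ℕ} {c : Fin (p' + 1) → Ix.{u} n} {z : L n k} {s : Γ(X, W i a)} (h : IsSec i a z s)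
    (hle : W i c ≤ W i a) (hsub : sup' a ⊆ sup' c) :
    IsSec i c z (X.presheaf.map (homOfLE hle).op s) := by
  obtain ⟨q, hq, m, hm, e, hs⟩ := h
  have hmq : (monomial q 1 : MvPolynomial (Fin (n + 1)) k) ∈ CohB1.polyGrading n k q.degree :=
    isHomogeneous_monomial 1 rfl
  refine ⟨q, fun j hj => hq j fun h => hj (hsub h), m, hm, e, ?_⟩
  rw [rat_base (W_le i c 0) (hle.trans (W_le i a 0)) hm, rat_base (W_le i c 0) (hle.trans (W_le i a 0)) hmq,
    ← rat_res hle (W_le i a 0) hm, ← rat_res hle (W_le i a 0) hmq, ← hs, map_mul]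
  ring

theorem preimage_Dm_qa {p : ℕ} (a : Fin (p + 1) → Ix.{u} n) :
    i ⁻¹ᵁ Dm (R := k) (qa (ULift.down ∘ a)) = W i a := by
  refine SetLike.ext fun x => ?_
  change i.base x ∈ Dm (R := k) (qa (ULift.down ∘ a)) ↔ _
  have hf : ∀ {Y : TopCat.{u}} (V : Ix.{u} n → Opens Y) (y : Y), y ∈ CechTop.cap V a ↔ ∀ l, y ∈ V (a l) :=
    fun V y => by
      rw [CechTop.cap, ← Finset.inf_univ_eq_iInf, ← SetLike.mem_coe, Opens.coe_finset_inf]
      simp [Finset.inf_eq_iInf]
  rw [Dm_qa, hf, hf]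
  rfl

theorem res_zero_and_surj {U V : X.Opens} (hU : IsAffineOpen U) (t : Γ(X, U)) (hV : V = X.basicOpen t) (hle : V ≤ U) :
    (∀ x, X.presheaf.map (homOfLE hle).op x = 0 → ∃ M : ℕ, t ^ M * x = 0) ∧
      ∀ s : Γ(X, V), ∃ (M : ℕ) (x : Γ(X, U)),
        s * X.presheaf.map (homOfLE hle).op t ^ M = X.presheaf.map (homOfLE hle).op x := by
  subst hV
  haveI := hU.isLocalization_basicOpen t
  constructor
  · intro x hx
    obtain ⟨⟨_, M, rfl⟩, hM⟩ := (IsLocalization.map_eq_zero_iff (Submonoid.powers t) Γ(X, X.basicOpen t) x).1 hx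
    exact ⟨M, hM⟩
  · intro s
    obtain ⟨⟨x, ⟨_, M, rfl⟩⟩, hx⟩ := IsLocalization.surj (Submonoid.powers t) s
    refine ⟨M, x, ?_⟩
    rw [← map_pow]
    exact hx

variable [IsClosedImmersion i]

theorem W_localization {p : ℕ} (a : Fin (p + 1) → Ix.{u} n) :
    ∃ t : Γ(X, cov i (a 0)), (∀ (M : ℕ) {l : ℕ} {m : MvPolynomial (Fin (n + 1)) k} (hm : m ∈ CohB1.polyGrading n k l),
        t ^ M * rat i (a 0) le_rfl hm = rat i (a 0) le_rfl
          (SetLike.mul_mem_graded (SetLike.pow_mem_graded M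
            (mon_mem (R := k) (qa (ULift.down ∘ a)))) hm)) ∧
      X.presheaf.map (homOfLE (W_le i a 0)).op t = rat i (a 0) (W_le i a 0) (mon_mem (R := k) (qa (ULift.down ∘ a))) ∧
      W i a = X.basicOpen t := by
  refine ⟨rat i (a 0) le_rfl (mon_mem (R := k) (qa (ULift.down ∘ a))), fun M l m hm => ?_, rat_res _ _ _, ?_⟩
  · rw [rat_mul le_rfl (SetLike.pow_mem_graded M (mon_mem (R := k) (qa (ULift.down ∘ a)))) hm,
      rat_pow le_rfl (mon_mem (R := k) (qa (ULift.down ∘ a)))]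
  · have e1 : rat i (a 0) le_rfl (mon_mem (R := k) (qa (ULift.down ∘ a))) =
        i.app _ (H11Tilde.ratio (CohB1.polyGrading n k) (xv_mem (k := k) (a 0)) (mon_mem (R := k) (qa (ULift.down ∘ a)))) := by
      rw [rat, show (homOfLE (le_refl (cov i (a 0)))).op = 𝟙 _ from rfl, CategoryTheory.Functor.map_id]
      rfl
    rw [e1, ← Scheme.preimage_basicOpen, H11Tilde.basicOpen_ratio, ← preimage_Dm_qa]
    refine congrArg (i ⁻¹ᵁ ·) ?_
    rw [Proj.basicOpen_mul, inf_of_le_right]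
    exact (Dm_qa (R := k) a).le.trans (iInf_le (fun l => Us n k (a l)) 0)

theorem isSec_zero_iff {z : L n k} (hz : z ∈ Asub n k 0 (sup' a)) :
    IsSec i a z 0 ↔ z ∈ Jsub (idl i) 0 (sup' a) := by
  obtain ⟨t, htM, -, hW⟩ := W_localization (i := i) a
  have haff : IsAffineOpen (cov i (a 0)) :=
    (Proj.isAffineOpen_basicOpen _ _ (xv_mem (k := k) (a 0)) Nat.one_pos).preimage i
  constructor
  · rintro ⟨q, hq, m, hm, e, hs⟩
    rw [zero_mul, ← rat_res (W_le i a 0) le_rfl hm] at hs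
    obtain ⟨M, hM⟩ := (res_zero_and_surj haff t hW (W_le i a 0)).1 _ hs.symm
    rw [htM M hm, rat, show (homOfLE (le_refl (cov i (a 0)))).op = 𝟙 _ from rfl, CategoryTheory.Functor.map_id] at hM
    obtain ⟨N, hN⟩ := (H11Proj.app_ratio_eq_zero_iff (CohB1.polyGrading n k) (xv (n := n) (k := k)) xv_mem i (a 0)
      (SetLike.mul_mem_graded (SetLike.pow_mem_graded M (mon_mem (R := k) (qa (ULift.down ∘ a)))) hm)).1 hM
    refine ⟨hz, q + M • qa (ULift.down ∘ a) + Finsupp.single (a 0).down N, fun j hj => ?_, _, hN, ?_⟩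
    · have h1 : qa (ULift.down ∘ a) j = 0 := by
        by_contra h
        exact hj ((qa_pos_iff _ j).1 (Nat.pos_of_ne_zero h))
      have h2 : (a 0).down ≠ j := fun h => hj ⟨0, h⟩
      simp [hq j hj, h1, Finsupp.single_eq_of_ne (Ne.symm h2)]
    · rw [map_mul, map_mul, map_pow, map_pow, xv, toL_mon, e, show toL n k (MvPolynomial.X (a 0).down) =
          T (castE n (Finsupp.single (a 0).down 1)) from toL_mon _, map_add, map_add, map_nsmul, ← T_mul, ← T_mul,
        show Finsupp.single (a 0).down N = N • Finsupp.single (a 0).down 1 by simp, map_nsmul]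
      simp only [T, AddMonoidAlgebra.single_pow, one_pow]
      ring
  · rintro ⟨-, q, hq, m, hm, e⟩
    have hm' : m ∈ CohB1.polyGrading n k q.degree := by
      have := isHomogeneous_of_toL hz e
      rwa [add_zero, Int.toNat_natCast] at this
    refine ⟨q, hq, m, hm', e, ?_⟩
    rw [zero_mul, rat, (H11Proj.app_ratio_eq_zero_iff (CohB1.polyGrading n k) (xv (n := n) (k := k)) xv_mem i (a 0)
      hm').2 ⟨0, by rw [pow_zero, one_mul]; exact hm⟩, map_zero]

theorem exists_isSec_surj (s : Γ(X, W i a)) : ∃ z ∈ Asub n k 0 (sup' a), IsSec i a z s := by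
  obtain ⟨t, -, ht, hW⟩ := W_localization (i := i) a
  have hP := Proj.isAffineOpen_basicOpen (CohB1.polyGrading n k) _ (xv_mem (k := k) (a 0)) Nat.one_pos
  obtain ⟨M, x, hx⟩ := (res_zero_and_surj (hP.preimage i) t hW (W_le i a 0)).2 s
  obtain ⟨r, rfl⟩ := i.app_surjective _ hP x
  obtain ⟨l, m, hm, rfl⟩ := H11Proj.exists_eq_ratio (CohB1.polyGrading n k) (xv_mem (k := k) (a 0)) r
  rw [ht] at hx
  change s * _ = rat i (a 0) (W_le i a 0) hm at hx
  let Q := qa (ULift.down ∘ a)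
  let q := M • Q + Finsupp.single (a 0).down l
  have hQ : ∀ j, j ∉ sup' a → Q j = 0 := fun j hj => by
    by_contra h
    exact hj ((qa_pos_iff _ j).1 (Nat.pos_of_ne_zero h))
  have hq : ∀ j, j ∉ sup' a → q j = 0 := fun j hj => by
    have h2 : (a 0).down ≠ j := fun h => hj ⟨0, h⟩
    simp [q, hQ j hj, Finsupp.single_eq_of_ne (Ne.symm h2)]
  have hdeg : q.degree = l + (M * Q.degree) • 1 := by simp [q, add_comm]
  have hm' : m * xv (k := k) (a 0) ^ (M * Q.degree) ∈ CohB1.polyGrading n k q.degree := by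
    rw [hdeg]
    exact SetLike.mul_mem_graded hm (SetLike.pow_mem_graded _ (xv_mem (a 0)))
  have hmqq : (monomial q 1 : MvPolynomial (Fin (n + 1)) k) = mon Q ^ M * xv (k := k) (a 0) ^ l := by
    rw [mon_pow, xv, MvPolynomial.X_pow_eq_monomial, monomial_mul, one_mul]
  refine ⟨toL n k (m * xv (k := k) (a 0) ^ (M * Q.degree)) * T (-castE n q),
    toL_mul_T_mem hm' q (by simp) hq, q, hq, _, hm', ?_, ?_⟩
  · rw [mul_assoc (toL n k _), T_mul, neg_add_cancel, T_zero, mul_one]
  · rw [rat_congr (W_le i a 0) hm' (SetLike.mul_mem_graded hm (SetLike.pow_mem_graded _ (xv_mem (a 0)))) rfl hdeg,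
      rat_congr (W_le i a 0) _ (SetLike.mul_mem_graded (SetLike.pow_mem_graded M (mon_mem (R := k) Q))
        (SetLike.pow_mem_graded l (xv_mem (k := k) (a 0)))) hmqq (by simp [q]),
      rat_mul (W_le i a 0) (SetLike.pow_mem_graded M (mon_mem (R := k) Q))
        (SetLike.pow_mem_graded l (xv_mem (k := k) (a 0))),
      rat_mul (W_le i a 0) hm (SetLike.pow_mem_graded _ (xv_mem (a 0))), rat_pow (W_le i a 0) (mon_mem (R := k) Q),
      rat_pow (W_le i a 0) (xv_mem (k := k) (a 0)), rat_pow (W_le i a 0) (xv_mem (k := k) (a 0)), rat_self, one_pow,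
      one_pow, mul_one, mul_one]
    exact hx

end

end Groth.Agent.H27FulTrace.Link
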