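import Groth.Agent.H18Perf.Trace
import Mathlib.LinearAlgebra.Trace
import Mathlib.LinearAlgebra.FiniteDimensional.Lemmas

/-!
# Alternating traces along a long exact sequence of vector spaces
-/

set_option autoImplicit false

universe v w

open Finset

namespace Groth.Agent.H27FulTrace

variable {k : Type w} [Field k]

/-- Finiteness in the middle of an exact sequence. -/
theorem finite_of_exact {U V W : Type v} [AddCommGroup U] [Module k U] [AddCommGroup V] [Module k V]
    [AddCommGroup W] [Module k W] [Module.Finite k U] [Module.Finite k W] (a : U →ₗ[k] V) (b : V →ₗ[k] W)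
    (h : Function.Exact a b) : Module.Finite k V := by
  haveI : Module.Finite k (LinearMap.ker b) := by
    rw [h.linearMap_ker_eq]
    infer_instance
  haveI : Module.Finite k (V ⧸ LinearMap.ker b) :=
    Module.Finite.of_injective b.quotKerEquivRange.toLinearMap b.quotKerEquivRange.injective
  exact Module.Finite.of_submodule_quotient (LinearMap.ker b)

variable {U V W : Type v} [AddCommGroup U] [Module k U] [AddCommGroup V] [Module k V]
  [AddCommGroup W] [Module k W]

theorem range_stable (a : U →ₗ[k] V) (fU : U →ₗ[k] U) (fV : V →ₗ[k] V) (h : a.comp fU = fV.comp a) :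
    ∀ x ∈ LinearMap.range a, fV x ∈ LinearMap.range a := by
  rintro _ ⟨x, rfl⟩
  exact ⟨fU x, LinearMap.congr_fun h x⟩

/-- The trace of `fV` on the range of an equivariant map into `V`. -/
noncomputable def trRange (a : U →ₗ[k] V) (fU : U →ₗ[k] U) (fV : V →ₗ[k] V) (h : a.comp fU = fV.comp a) : k :=
  LinearMap.trace k (LinearMap.range a) (fV.restrict (range_stable a fU fV h))

theorem trRange_eq_zero (a : U →ₗ[k] V) (fU : U →ₗ[k] U) (fV : V →ₗ[k] V) (h : a.comp fU = fV.comp a)
    [Subsingleton V] : trRange a fU fV h = 0 := by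
  rw [trRange, Subsingleton.elim (fV.restrict (range_stable a fU fV h)) 0, map_zero]

theorem trace_eq_trRange_of_injective [Module.Finite k V] (a : U →ₗ[k] V) (fU : U →ₗ[k] U) (fV : V →ₗ[k] V)
    (h : a.comp fU = fV.comp a) (ha : Function.Injective a) :
    LinearMap.trace k U fU = trRange a fU fV h := by
  let e : U ≃ₗ[k] LinearMap.range a := LinearEquiv.ofInjective a ha
  rw [trRange, ← LinearMap.trace_conj' fU e]
  congr 1
  refine LinearMap.ext fun y => ?_
  obtain ⟨x, rfl⟩ := e.surjective y
  rw [LinearEquiv.conj_apply_apply, e.symm_apply_apply]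
  exact Subtype.ext (LinearMap.congr_fun h x)

theorem trace_eq_trRange_add [Module.Finite k V] (a : U →ₗ[k] V) (b : V →ₗ[k] W) (fU : U →ₗ[k] U)
    (fV : V →ₗ[k] V) (fW : W →ₗ[k] W) (ha : a.comp fU = fV.comp a) (hb : b.comp fV = fW.comp b)
    (h : Function.Exact a b) : LinearMap.trace k V fV = trRange a fU fV ha + trRange b fV fW hb := by
  haveI : Module.Finite k (LinearMap.range b) := Module.Finite.range b
  refine H18Perf.trace_eq_add (LinearMap.range a).subtype b.rangeRestrict (Submodule.injective_subtype _)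
    (LinearMap.surjective_rangeRestrict b) (fun y => ?_) fV _ _ (LinearMap.ext fun x => rfl)
    (LinearMap.ext fun x => Subtype.ext (LinearMap.congr_fun hb x))
  rw [Submodule.coe_subtype, Subtype.range_coe_subtype]
  constructor
  · intro hy
    exact (h y).1 (congrArg Subtype.val hy)
  · intro hy
    exact Subtype.ext ((h y).2 hy)

/-- Alternating traces are additive along a long exact sequence. -/
theorem alt_trace {P Q R : ℕ → Type v} [∀ p, AddCommGroup (P p)] [∀ p, Module k (P p)] [∀ p, AddCommGroup (Q p)]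
    [∀ p, Module k (Q p)] [∀ p, AddCommGroup (R p)] [∀ p, Module k (R p)] [∀ p, Module.Finite k (P p)]
    [∀ p, Module.Finite k (Q p)] [∀ p, Module.Finite k (R p)]
    (a : ∀ p, P p →ₗ[k] Q p) (b : ∀ p, Q p →ₗ[k] R p) (c : ∀ p, R p →ₗ[k] P (p + 1))
    (fP : ∀ p, P p →ₗ[k] P p) (fQ : ∀ p, Q p →ₗ[k] Q p) (fR : ∀ p, R p →ₗ[k] R p)
    (ha : ∀ p, (a p).comp (fP p) = (fQ p).comp (a p)) (hb : ∀ p, (b p).comp (fQ p) = (fR p).comp (b p))
    (hc : ∀ p, (c p).comp (fR p) = (fP (p + 1)).comp (c p))
    (h0 : Function.Injective (a 0)) (hab : ∀ p, Function.Exact (a p) (b p))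
    (hbc : ∀ p, Function.Exact (b p) (c p)) (hca : ∀ p, Function.Exact (c p) (a (p + 1)))
    (N : ℕ) [Subsingleton (P N)] :
    ∑ p ∈ range N, (-1 : k) ^ p * LinearMap.trace k (Q p) (fQ p) =
      ∑ p ∈ range N, (-1 : k) ^ p * LinearMap.trace k (P p) (fP p) +
        ∑ p ∈ range N, (-1 : k) ^ p * LinearMap.trace k (R p) (fR p) := by
  have key : ∀ M, ∑ p ∈ range (M + 1), (-1 : k) ^ p * (LinearMap.trace k (Q p) (fQ p) -
      LinearMap.trace k (P p) (fP p) - LinearMap.trace k (R p) (fR p)) =
      (-1 : k) ^ (M + 1) * trRange (c M) (fR M) (fP (M + 1)) (hc M) := by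
    intro M
    induction M with
    | zero =>
      rw [sum_range_one, trace_eq_trRange_add (a 0) (b 0) _ _ _ (ha 0) (hb 0) (hab 0),
        trace_eq_trRange_of_injective (a 0) _ _ (ha 0) h0,
        trace_eq_trRange_add (b 0) (c 0) _ _ _ (hb 0) (hc 0) (hbc 0)]
      ring
    | succ M ih =>
      rw [sum_range_succ, ih, trace_eq_trRange_add (a (M + 1)) (b (M + 1)) _ _ _ (ha _) (hb _) (hab _),
        trace_eq_trRange_add (c M) (a (M + 1)) _ _ _ (hc M) (ha (M + 1)) (hca M),
        trace_eq_trRange_add (b (M + 1)) (c (M + 1)) _ _ _ (hb _) (hc _) (hbc _)]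
      ring
  rcases N with _ | M
  · simp
  · have h := key M
    rw [trRange_eq_zero, mul_zero] at h
    rw [← sum_add_distrib, ← sub_eq_zero, ← sum_sub_distrib]
    refine Eq.trans (sum_congr rfl fun p _ => ?_) h
    ring

end Groth.Agent.H27FulTrace
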